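import Groth.Agent.OdpLib.Taylor
import Mathlib.RingTheory.AlgebraicIndependent.AlgebraicClosure
import Mathlib.RingTheory.AlgebraicIndependent.TranscendenceBasis
import Mathlib.FieldTheory.AlgebraicClosure
import Mathlib.RingTheory.Unramified.Finite
import Mathlib.Combinatorics.Matroid.Rank.ENat
import Mathlib.LinearAlgebra.Dual.Lemmas

/-!
# Counting transcendence degrees
-/

set_option autoImplicit false
set_option maxHeartbeats 1000000
set_option backward.isDefEq.respectTransparency false
set_option linter.style.haveILetI false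
universe u
open TensorProduct KaehlerDifferential Module

noncomputable section

namespace Groth.Agent.PencilLib.AnyChar

variable {k : Type u} [Field k]

theorem exists_poly_no_solution' {σ τ : Type} (S : Set (MvPolynomial (τ ⊕ σ) k))
    (h : ∀ (L : Type u) [Field L] [Algebra k L] (w : σ → L) (x : τ → L), AlgebraicIndependent k w →
      (∀ p ∈ S, MvPolynomial.aeval (Sum.elim x w) p = 0) → False) :
    ∃ g : MvPolynomial σ k, g ≠ 0 ∧ ∀ (w : σ → k) (x : τ → k), MvPolynomial.eval w g ≠ 0 →
      ¬ ∀ p ∈ S, MvPolynomial.eval (Sum.elim x w) p = 0 := by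
  classical
  let I : Ideal (MvPolynomial (τ ⊕ σ) k) := Ideal.span S
  by_cases hI : ∃ g : MvPolynomial σ k, g ≠ 0 ∧ MvPolynomial.rename Sum.inr g ∈ I
  · obtain ⟨g, hg, hgI⟩ := hI
    refine ⟨g, hg, fun w x hw hall => hw ?_⟩
    have hle : I ≤ RingHom.ker (MvPolynomial.eval (Sum.elim x w)) := Ideal.span_le.2 fun p hp => hall p hp
    have := hle hgI
    rwa [RingHom.mem_ker, MvPolynomial.eval_rename, Sum.elim_comp_inr] at this
  exfalso
  push Not at hI
  let M₀ : Submonoid (MvPolynomial (τ ⊕ σ) k) := (nonZeroDivisors (MvPolynomial σ k)).map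
    (MvPolynomial.rename Sum.inr : MvPolynomial σ k →ₐ[k] _).toRingHom.toMonoidHom
  obtain ⟨P, hP, hIP, hdisj⟩ := Ideal.exists_le_prime_disjoint I M₀ (Set.disjoint_left.2 fun z hz hz' => by
    obtain ⟨g, hg, rfl⟩ := hz'
    exact hI g (nonZeroDivisors.ne_zero hg) hz)
  haveI := hP
  let Q := MvPolynomial (τ ⊕ σ) k ⧸ P
  let L := FractionRing Q
  let q : MvPolynomial (τ ⊕ σ) k →ₐ[k] L := (IsScalarTower.toAlgHom k Q L).comp (Ideal.Quotient.mkₐ k P)
  have hq : ∀ z, q z = 0 ↔ z ∈ P := fun z =>
    (map_eq_zero_iff _ (IsFractionRing.injective Q L)).trans Ideal.Quotient.eq_zero_iff_mem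
  have hqv : q = MvPolynomial.aeval (Sum.elim (fun i => q (MvPolynomial.X (Sum.inl i))) fun i => q (MvPolynomial.X (Sum.inr i))) :=
    MvPolynomial.algHom_ext fun i => by rcases i with i | i <;> simp
  refine h L (fun i => q (MvPolynomial.X (Sum.inr i))) (fun i => q (MvPolynomial.X (Sum.inl i))) ?_ fun p hp => ?_
  · rw [algebraicIndependent_iff]
    intro f hf
    by_contra hne
    refine Set.disjoint_left.1 hdisj ((hq _).1 ?_) ⟨f, mem_nonZeroDivisors_of_ne_zero hne, rfl⟩
    show q (MvPolynomial.rename Sum.inr f) = 0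
    rw [hqv, MvPolynomial.aeval_rename]
    exact hf
  · rw [← hqv]
    exact (hq p).2 (hIP (Ideal.subset_span hp))

variable {L : Type u} [Field L] [Algebra k L]

/-- The elements algebraic over the field generated by a set. -/
abbrev Cl (s : Set L) : IntermediateField (IntermediateField.adjoin k s) L :=
  algebraicClosure (IntermediateField.adjoin k s) L

instance tower_Cl (s : Set L) : IsScalarTower k (Cl (k := k) s) L := IsScalarTower.of_algebraMap_eq fun _ => rfl

/-- The rank of a set of elements. -/
abbrev rk (k : Type u) [Field k] {L : Type u} [Field L] [Algebra k L] (s : Set L) : ℕ∞ :=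
  (AlgebraicIndependent.matroid k L).eRk s

theorem mem_Cl_iff {s : Set L} {x : L} :
    x ∈ Cl (k := k) s ↔ x ∈ (AlgebraicIndependent.matroid k L).closure s := by
  rw [AlgebraicIndependent.matroid_closure_eq, mem_algebraicClosure_iff, SetLike.mem_coe,
    Subalgebra.mem_algebraicClosure, IntermediateField.isAlgebraic_adjoin_iff]

theorem subset_Cl (s : Set L) {x : L} (hx : x ∈ s) : x ∈ Cl (k := k) s :=
  mem_Cl_iff.2 (Matroid.mem_closure_of_mem' _ hx)

theorem Cl_mono {s t : Set L} (h : s ⊆ t) {x : L} (hx : x ∈ Cl (k := k) s) : x ∈ Cl (k := k) t :=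
  mem_Cl_iff.2 (Matroid.closure_subset_closure _ h (mem_Cl_iff.1 hx))

theorem rk_le_of_subset_Cl {s t : Set L} (h : ∀ x ∈ t, x ∈ Cl (k := k) s) : rk k t ≤ rk k s :=
  ((AlgebraicIndependent.matroid k L).eRk_mono fun x hx => mem_Cl_iff.1 (h x hx)).trans_eq
    ((AlgebraicIndependent.matroid k L).eRk_closure_eq s)

theorem rk_range_le {ι : Type} [Fintype ι] (v : ι → L) : rk k (Set.range v) ≤ Fintype.card ι := by
  classical
  refine ((AlgebraicIndependent.matroid k L).eRk_le_encard _).trans ?_
  rw [← Set.image_univ]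
  exact (Set.encard_image_le _ _).trans (by simp)

theorem rk_union (s t : Set L) : rk k (s ∪ t) ≤ rk k s + rk k t :=
  (AlgebraicIndependent.matroid k L).eRk_union_le_eRk_add_eRk s t

theorem rk_range_eq {ι : Type} [Fintype ι] {w : ι → L} (hw : AlgebraicIndependent k w) :
    rk k (Set.range w) = Fintype.card ι := by
  have hI : (AlgebraicIndependent.matroid k L).Indep (Set.range w) :=
    AlgebraicIndependent.matroid_indep_iff.2 hw.to_subtype_range
  rw [rk, hI.eRk_eq_encard, ← Set.image_univ, hw.injective.injOn.encard_image]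
  simp

theorem algebraicIndependent_of_rk {ι : Type} [Fintype ι] {v : ι → L} (h : (Fintype.card ι : ℕ∞) ≤ rk k (Set.range v)) :
    AlgebraicIndependent k v := by
  classical
  have h1 : (Set.range v).encard ≤ (Fintype.card ι : ℕ∞) := by
    rw [← Set.image_univ]
    exact (Set.encard_image_le _ _).trans (by simp)
  have hfin := (AlgebraicIndependent.matroid k L).eRk_le_encard (Set.range v)
  have hcard : (Set.range v).encard = Fintype.card ι := le_antisymm h1 (h.trans hfin)
  have hinj : Function.Injective v := by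
    rw [← Set.injOn_univ]
    refine Set.finite_univ.injOn_of_encard_image_eq ?_
    rw [Set.image_univ, hcard]
    simp
  have hI : (AlgebraicIndependent.matroid k L).Indep (Set.range v) :=
    ((AlgebraicIndependent.matroid k L).indep_iff_eRk_eq_encard_of_finite (Set.finite_range v)).2
      (le_antisymm hfin (h1.trans h))
  exact AlgebraicIndependent.of_subtype_range hinj (AlgebraicIndependent.matroid_indep_iff.1 hI)

/-- A nonzero polynomial with algebraic coefficients kills independence. -/
theorem rk_lt_of_eval_eq_zero {ι κ : Type} [Fintype ι] [Fintype κ] (z : ι → L) (t : κ → L)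
    (P : MvPolynomial κ (Cl (k := k) (Set.range z))) (hP : P ≠ 0) (ht : MvPolynomial.aeval t P = 0) :
    rk k (Set.range z ∪ Set.range t) + 1 ≤ (Fintype.card ι + Fintype.card κ : ℕ) := by
  have hlt : rk k (Set.range z ∪ Set.range t) < (Fintype.card ι + Fintype.card κ : ℕ) := by
    by_contra hnlt
    rw [not_lt] at hnlt
    have hv : AlgebraicIndependent k (Sum.elim t z) := by
      refine algebraicIndependent_of_rk ?_
      rw [Fintype.card_sum, Set.Sum.elim_range, Set.union_comm, add_comm]
      exact hnlt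
    have h2 := (AlgebraicIndependent.sumElim_iff.1 hv).2
    rw [← IntermediateField.algebraicIndependent_adjoin_iff] at h2
    exact hP ((algebraicIndependent_iff.1 h2.algebraicClosure) P ht)
  exact Order.add_one_le_of_lt hlt

/-- In a chart everything is algebraic over the coordinates. -/
theorem mem_Cl_coords {A : Type u} [CommRing A] [Algebra k A] [Algebra.FiniteType k A] {n : ℕ}
    (z : Fin n → A) (b : Basis (Fin n) A Ω[A⁄k]) (hb : ∀ l, b l = D k A (z l)) (χ : A →ₐ[k] L)
    {s : Set L} (hs : ∀ l, χ (z l) ∈ Cl (k := k) s) (t : A) : χ t ∈ Cl (k := k) s := by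
  classical
  let M := Cl (k := k) s
  obtain ⟨m, f, hf⟩ := Algebra.FiniteType.iff_quotient_mvPolynomial''.1 (inferInstance : Algebra.FiniteType k A)
  let y : Fin m → A := fun i => f (MvPolynomial.X i)
  let R : Subalgebra M L := Algebra.adjoin M (Set.range fun i => χ (y i))
  have hmem : ∀ a, χ a ∈ R.restrictScalars k := by
    intro a
    obtain ⟨P, rfl⟩ := hf a
    induction P using MvPolynomial.induction_on with
    | C c =>
      rw [← MvPolynomial.algebraMap_eq, AlgHom.commutes, AlgHom.commutes]
      exact Subalgebra.algebraMap_mem _ c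
    | add P Q hP hQ => rw [map_add, map_add]; exact add_mem hP hQ
    | mul_X P i hP =>
      rw [map_mul, map_mul]
      exact mul_mem hP (Algebra.subset_adjoin ⟨i, rfl⟩)
  let χR : A →ₐ[k] R := χ.codRestrict (R.restrictScalars k) hmem
  letI : Algebra A R := χR.toRingHom.toAlgebra
  haveI : IsScalarTower k A R := IsScalarTower.of_algebraMap_eq fun c => (χR.commutes c).symm
  letI : Module A Ω[R⁄M] := Module.compHom _ χR.toRingHom
  haveI : IsScalarTower A R Ω[R⁄M] := ⟨fun a r x => (smul_assoc (χR a) r x :)⟩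
  let d : Derivation k A Ω[R⁄M] := ((D M R).restrictScalars k).compAlgebraMap A
  have hd : ∀ a, d a = D M R (χR a) := fun a => rfl
  have hz : ∀ l, d (z l) = 0 := fun l => by
    rw [hd, show χR (z l) = algebraMap M R ⟨χ (z l), hs l⟩ from Subtype.ext rfl, Derivation.map_algebraMap]
  have hzero : ∀ a, D M R (χR a) = 0 := fun a => by
    rw [← hd, ← d.liftKaehlerDifferential_comp_D, ← b.sum_repr (D k A a), map_sum]
    exact Finset.sum_eq_zero fun l _ => by rw [map_smul, hb, d.liftKaehlerDifferential_comp_D, hz, smul_zero]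
  have hall : ∀ a : R, D M R a = 0 := by
    rintro ⟨a, ha⟩
    induction ha using Algebra.adjoin_induction with
    | mem a ha => obtain ⟨i, rfl⟩ := ha; exact hzero (y i)
    | algebraMap c => exact Derivation.map_algebraMap _ c
    | add a a' ha ha' h h' =>
      rw [show (⟨a + a', add_mem ha ha'⟩ : R) = ⟨a, ha⟩ + ⟨a', ha'⟩ from rfl, map_add, h, h', add_zero]
    | mul a a' ha ha' h h' =>
      rw [show (⟨a * a', mul_mem ha ha'⟩ : R) = ⟨a, ha⟩ * ⟨a', ha'⟩ from rfl, Derivation.leibniz, h, h', smul_zero,
        smul_zero, add_zero]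
  haveI : Algebra.FormallyUnramified M R := ⟨by
    refine subsingleton_of_forall_eq 0 fun ω => ?_
    have : ω ∈ Submodule.span R (Set.range (D M R)) := by rw [KaehlerDifferential.span_range_derivation]; trivial
    refine Submodule.span_induction ?_ rfl (fun a c _ _ ha hc => by rw [ha, hc, add_zero])
      (fun c a _ ha => by rw [ha, smul_zero]) this
    rintro _ ⟨a, rfl⟩
    exact hall a⟩
  haveI : Algebra.FiniteType M R := R.fg_iff_finiteType.1 (Subalgebra.fg_def.2 ⟨_, Set.finite_range _, rfl⟩)
  haveI : Module.Finite M R := Algebra.FormallyUnramified.finite_of_free M R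
  have halg : IsAlgebraic M (χ t) := by
    have := (Algebra.IsIntegral.isIntegral (R := M) (χR t)).map (R.val)
    exact this.isAlgebraic
  rw [mem_algebraicClosure_iff]
  exact halg.restrictScalars (IntermediateField.adjoin k s)

/-- Solutions of a system of full rank depend on fewer parameters. -/
theorem exists_params {N : ℕ} {R : Type} [Fintype R] {K : Type u} [Field K] [Algebra K L] (Θ : R → Fin N → K)
    (hΘ : ∀ γ : R → K, (∀ a, ∑ m, γ m * Θ m a = 0) → γ = 0) :
    ∃ (q : ℕ) (E : Fin q → Fin N → K) (C : Fin q → Fin N → K), q + Fintype.card R = N ∧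
      (∀ i m, ∑ a, Θ m a * E i a = 0) ∧
      ∀ u : Fin N → L, (∀ m, ∑ a, algebraMap K L (Θ m a) * u a = 0) →
        ∀ a, u a = ∑ i, (∑ a', algebraMap K L (C i a') * u a') * algebraMap K L (E i a) := by
  classical
  let f : (Fin N → K) →ₗ[K] (R → K) := LinearMap.pi fun m => ∑ a, Θ m a • LinearMap.proj a
  have hf : ∀ v m, f v m = ∑ a, Θ m a * v a := fun v m => by simp [f, LinearMap.sum_apply]
  have hsurj : LinearMap.range f = ⊤ := by
    by_contra hne
    obtain ⟨φ, hφ0, hφ⟩ := Submodule.exists_le_ker_of_lt_top _ (lt_top_iff_ne_top.2 hne)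
    refine hφ0 (LinearMap.pi_ext' fun m => LinearMap.ext_ring ?_)
    have h := congrFun (hΘ (fun m => φ (Pi.single m 1)) fun a => by
      have h1 : φ (f (Pi.single a 1)) = 0 := hφ (LinearMap.mem_range_self f _)
      rw [pi_eq_sum_univ' (f (Pi.single a 1)), map_sum] at h1
      rw [← h1]
      refine Finset.sum_congr rfl fun m _ => ?_
      rw [map_smul, smul_eq_mul, hf, mul_comm]
      simp [Pi.single_apply, mul_comm]) m
    simpa using h
  obtain ⟨σ, hσ⟩ := LinearMap.exists_rightInverse_of_surjective f hsurj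
  have hσ' : ∀ v, f (σ v) = v := fun v => LinearMap.congr_fun hσ v
  let e := Module.finBasis K (LinearMap.ker f)
  refine ⟨Module.finrank K (LinearMap.ker f), fun i => (e i).1,
    fun i a' => e.repr ⟨Pi.single a' 1 - σ (f (Pi.single a' 1)), by simp [hσ']⟩ i, ?_, fun i m => ?_, fun u hu a => ?_⟩
  · have h1 := LinearMap.finrank_range_add_finrank_ker f
    rw [hsurj, finrank_top, Module.finrank_fintype_fun_eq_card, Module.finrank_fintype_fun_eq_card,
      Fintype.card_fin] at h1
    omega
  · rw [← hf]
    exact congrFun (e i).2 m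
  · have key : ∀ a', algebraMap K L ((Pi.single a' 1 : Fin N → K) a) =
        (∑ m, algebraMap K L (Θ m a') * algebraMap K L (σ (Pi.single m 1) a)) +
          ∑ i, algebraMap K L (e.repr ⟨Pi.single a' 1 - σ (f (Pi.single a' 1)), by simp [hσ']⟩ i) *
            algebraMap K L ((e i).1 a) := by
      intro a'
      have h1 := congrArg (fun v : LinearMap.ker f => (v : Fin N → K) a)
        (e.sum_repr ⟨Pi.single a' 1 - σ (f (Pi.single a' 1)), by simp [hσ']⟩)
      simp only [Submodule.coe_sum, Submodule.coe_smul, Finset.sum_apply, Pi.smul_apply, smul_eq_mul, Pi.sub_apply] at h1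
      have h2 : σ (f (Pi.single a' 1)) a = ∑ m, Θ m a' * σ (Pi.single m 1) a := by
        conv_lhs => rw [pi_eq_sum_univ' (f (Pi.single a' 1))]
        simp only [map_sum, map_smul, Finset.sum_apply, Pi.smul_apply, smul_eq_mul, hf]
        exact Finset.sum_congr rfl fun m _ => by simp [Pi.single_apply]
      rw [h2, eq_sub_iff_add_eq, add_comm] at h1
      rw [← h1]
      simp only [map_add, map_sum, map_mul]
    calc u a = ∑ a', algebraMap K L ((Pi.single a' 1 : Fin N → K) a) * u a' := by
          simp [Pi.single_apply, apply_ite (algebraMap K L)]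
      _ = _ := by
        simp only [key, add_mul, Finset.sum_add_distrib, Finset.sum_mul]
        rw [Finset.sum_comm, Finset.sum_comm (γ := Fin (Module.finrank K (LinearMap.ker f)))]
        have h3 : ∀ m, ∑ a', algebraMap K L (Θ m a') * algebraMap K L (σ (Pi.single m 1) a) * u a' = 0 := fun m => by
          rw [← mul_zero (algebraMap K L (σ (Pi.single m 1) a)), ← hu m, Finset.mul_sum]
          exact Finset.sum_congr rfl fun a' _ => by ring
        simp only [h3, Finset.sum_const_zero, zero_add]
        exact Finset.sum_congr rfl fun i _ => Finset.sum_congr rfl fun a' _ => by ring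

/-- Generic pairs are not determined by too few parameters. -/
theorem false_of_count {N : ℕ} (F G : Fin N → L) (hw : AlgebraicIndependent k (Sum.elim F G)) (c : L) (p : Set L)
    (hu : ∀ a, F a + c * G a ∈ Cl (k := k) p) (hp : rk k p + 2 ≤ (N : ℕ∞)) : False := by
  let P := p ∪ {c} ∪ Set.range G
  have hsub : ∀ x ∈ Set.range (Sum.elim F G), x ∈ Cl (k := k) P := by
    rintro x ⟨a | a, rfl⟩
    · have hc : c ∈ Cl (k := k) P := subset_Cl P (Or.inl (Or.inr rfl))
      have hG : G a ∈ Cl (k := k) P := subset_Cl P (Or.inr ⟨a, rfl⟩)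
      have := sub_mem (Cl_mono (t := P) (fun x hx => Or.inl (Or.inl hx)) (hu a)) (mul_mem hc hG)
      simpa using this
    · exact subset_Cl P (Or.inr ⟨a, rfl⟩)
  have h1 := rk_le_of_subset_Cl hsub
  rw [rk_range_eq hw, Fintype.card_sum, Fintype.card_fin] at h1
  have h2 : rk k P ≤ rk k p + 1 + (N : ℕ∞) := by
    refine (rk_union _ _).trans (add_le_add ((rk_union _ _).trans (add_le_add le_rfl ?_)) ?_)
    · exact ((AlgebraicIndependent.matroid k L).eRk_le_encard _).trans (by simp)
    · simpa using rk_range_le (k := k) G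
  have h3 := h1.trans h2
  have h4 : ((N + N + 1 : ℕ) : ℕ∞) ≤ ((N + N : ℕ) : ℕ∞) := by
    calc ((N + N + 1 : ℕ) : ℕ∞) = ((N + N : ℕ) : ℕ∞) + 1 := by push_cast; rfl
      _ ≤ rk k p + 1 + (N : ℕ∞) + 1 := add_le_add h3 le_rfl
      _ = rk k p + 2 + (N : ℕ∞) := by rw [← one_add_one_eq_two]; abel
      _ ≤ (N : ℕ∞) + (N : ℕ∞) := add_le_add hp le_rfl
      _ = _ := by push_cast; rfl
  rw [Nat.cast_le] at h4
  omega

end Groth.Agent.PencilLib.AnyChar
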