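import Groth.Agent.PencilLib.AnyChar.Field
import Groth.Agent.OdpLib.Open
import Groth.Agent.S4023

/-!
# Two-jets of forms along a piece of a chart
-/

set_option autoImplicit false
set_option maxHeartbeats 1000000
set_option backward.isDefEq.respectTransparency false
set_option backward.isDefEq.respectTransparency.types false
set_option linter.style.haveILetI false
universe u
open CategoryTheory CategoryTheory.Limits AlgebraicGeometry TopologicalSpace IsLocalRing KaehlerDifferential Module Matrix TensorProduct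
open Groth.Agent.AmpleEmb Groth.Agent.BertiniProjLib Groth.Agent.LefDualLib

noncomputable section

namespace Groth.Agent.PencilLib.AnyChar

variable {k : Type u} [Field k] {n : ℕ}

section upper
variable {R : Type u} [CommRing R]

/-- The upper triangular matrix of a quadratic form. -/
def upper (g : Matrix (Fin n) (Fin n) R) : Matrix (Fin n) (Fin n) R :=
  fun i l => if i = l then g i i else if i < l then g i l + g l i else 0

theorem upper_map {S : Type u} [CommRing S] (f : R →+* S) (g : Matrix (Fin n) (Fin n) R) :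
    (upper g).map f = upper (g.map f) := by
  ext i l
  simp only [upper, Matrix.map_apply]
  split_ifs <;> simp

theorem upper_apply_of_gt (g : Matrix (Fin n) (Fin n) R) {i l : Fin n} (h : l < i) : upper g i l = 0 := by
  simp [upper, h.ne', not_lt.2 h.le]

theorem polyQ_upper (g : Matrix (Fin n) (Fin n) R) : OdpLib.polyQ (upper g) = OdpLib.polyQ g := by
  let N : Matrix (Fin n) (Fin n) R := fun i l => if i < l then g l i else 0
  have hadd : ∀ A B : Matrix (Fin n) (Fin n) R, OdpLib.polyQ (A + B) = OdpLib.polyQ A + OdpLib.polyQ B := fun A B => by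
    simp only [OdpLib.polyQ, Matrix.add_apply, map_add, add_mul, Finset.sum_add_distrib]
  have ht : OdpLib.polyQ Nᵀ = OdpLib.polyQ N := by
    simp only [OdpLib.polyQ, Matrix.transpose_apply]
    rw [Finset.sum_comm]
    exact Finset.sum_congr rfl fun i _ => Finset.sum_congr rfl fun l _ => by rw [mul_comm (MvPolynomial.X l)]
  have e : upper g + Nᵀ = g + N := by
    ext i l
    simp only [upper, Matrix.add_apply, Matrix.transpose_apply, N]
    rcases lt_trichotomy i l with h | rfl | h
    · simp [h, h.ne, not_lt.2 h.le]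
    · simp
    · simp [h, h.ne', not_lt.2 h.le]
  have := congrArg OdpLib.polyQ e
  rw [hadd, hadd, ht] at this
  exact add_right_cancel this

end upper

theorem upper_eq_of_polyQ {G G' : Matrix (Fin n) (Fin n) k} (e : OdpLib.polyQ G = OdpLib.polyQ G') :
    upper G = upper G' := by
  classical
  have h : ∀ v : Fin n → k, v ⬝ᵥ (G *ᵥ v) = v ⬝ᵥ (G' *ᵥ v) := fun v => by
    rw [← OdpLib.eval_polyQ, ← OdpLib.eval_polyQ, e]
  ext i l
  have h1 := h (Pi.single i 1)
  have h2 := h (Pi.single l 1)
  have h3 := h (Pi.single i 1 + Pi.single l 1)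
  simp only [mulVec_add, add_dotProduct, dotProduct_add, mulVec_single, MulOpposite.op_one, one_smul,
    single_dotProduct, Matrix.col_apply, one_mul] at h1 h2 h3
  simp only [upper]
  split_ifs with hil hlt
  · exact h1
  · linear_combination h3 - h1 - h2
  · rfl

/-- A non-degenerate quadratic form over every field. -/
def stdQ (k : Type u) [Field k] (n : ℕ) : Matrix (Fin n) (Fin n) k :=
  fun i l => if Even (i : ℕ) ∧ ((l : ℕ) = i + 1 ∨ (l = i ∧ (i : ℕ) + 1 = n)) then 1 else 0

theorem upper_stdQ : upper (stdQ k n) = stdQ k n := by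
  ext i l
  simp only [upper]
  split_ifs with hil hlt
  · rw [hil]
  · have : stdQ k n l i = 0 := if_neg (by
      rintro ⟨-, h | ⟨h, -⟩⟩
      · have : (i : ℕ) < l := hlt
        omega
      · exact hil h)
    rw [this, add_zero]
  · exact (if_neg (by
      rintro ⟨-, h | ⟨h, -⟩⟩
      · exact hlt (show (i : ℕ) < l by omega)
      · exact hil h.symm)).symm

theorem nd_stdQ : OdpLib.ND (stdQ k n) := by
  classical
  intro v hq hH
  have hrow : ∀ i, ∑ l, (stdQ k n i l + stdQ k n l i) * v l = 0 := fun i => congrFun hH i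
  have hpair : ∀ i l : Fin n, Even (i : ℕ) → (l : ℕ) = i + 1 → v i = 0 ∧ v l = 0 := by
    intro i l hi hl
    have hl' : ¬ Even (l : ℕ) := by rw [hl, Nat.even_add_one]; exact not_not.2 hi
    have e1 : ∀ m, stdQ k n i m + stdQ k n m i = if m = l then 1 else 0 := by
      intro m
      have a1 : stdQ k n i m = if m = l then 1 else 0 := by
        simp only [stdQ]
        refine if_congr ⟨fun ⟨_, h⟩ => Fin.ext ?_, fun h => ⟨hi, Or.inl (by rw [h, hl])⟩⟩ rfl rfl
        rcases h with h | ⟨-, h⟩
        · omega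
        · have := l.2; omega
      have a2 : stdQ k n m i = 0 := if_neg (by
        rintro ⟨hm, h | ⟨hmi, h⟩⟩
        · rw [h, Nat.even_add_one] at hi; exact hi hm
        · subst hmi
          have := l.2
          omega)
      rw [a1, a2, add_zero]
    have e2 : ∀ m, stdQ k n l m + stdQ k n m l = if m = i then 1 else 0 := by
      intro m
      have a1 : stdQ k n l m = 0 := if_neg fun h => hl' h.1
      have a2 : stdQ k n m l = if m = i then 1 else 0 := by
        simp only [stdQ]
        refine if_congr ⟨fun ⟨hm, h⟩ => Fin.ext ?_, fun h => ⟨by rw [h]; exact hi, Or.inl (by rw [h, hl])⟩⟩ rfl rfl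
        rcases h with h | ⟨h, -⟩
        · omega
        · exact absurd (h ▸ hm) hl'
      rw [a1, a2, zero_add]
    have h1 := hrow i
    have h2 := hrow l
    simp only [e1, e2, ite_mul, one_mul, zero_mul, Finset.sum_ite_eq', Finset.mem_univ, if_true] at h1 h2
    exact ⟨h2, h1⟩
  funext i
  rcases Nat.even_or_odd (i : ℕ) with hi | hi
  · by_cases hn : (i : ℕ) + 1 < n
    · exact (hpair i ⟨i + 1, hn⟩ hi rfl).1
    · have hlast : (i : ℕ) + 1 = n := by have := i.2; omega
      have hrest : ∀ m, m ≠ i → v m = 0 := by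
        intro m hm
        have hmn : (m : ℕ) < i := by
          have := m.2
          rcases Nat.lt_or_ge (m : ℕ) i with h | h
          · exact h
          · exact absurd (Fin.ext (by omega)) hm
        rcases Nat.even_or_odd (m : ℕ) with he | ho
        · exact (hpair m ⟨m + 1, by omega⟩ he rfl).1
        · obtain ⟨t, ht⟩ := ho
          exact (hpair ⟨m - 1, by omega⟩ m (by simp [ht]) (by simp; omega)).2
      have hii : stdQ k n i i = 1 := if_pos ⟨hi, Or.inr ⟨rfl, hlast⟩⟩
      rw [dotProduct, Finset.sum_eq_single i (fun m _ hm => by rw [hrest m hm, zero_mul]) (by simp), mulVec,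
        dotProduct, Finset.sum_eq_single i (fun m _ hm => by rw [hrest m hm, mul_zero]) (by simp), hii, one_mul,
        mul_self_eq_zero] at hq
      exact hq
  · obtain ⟨t, ht⟩ := hi
    exact (hpair ⟨(i : ℕ) - 1, by omega⟩ i (by simp [ht]) (by simp; omega)).2

variable {T : Type u} [CommRing T] [Algebra k T] [Algebra.FiniteType k T]

/-- A system surjective at every point is surjective. -/
theorem exists_preimage [IsAlgClosed k] {N : ℕ} {R : Type} [Fintype R] (Θ : R → Fin N → T)
    (h : ∀ (p : T →ₐ[k] k) (γ : R → k), (∀ a, ∑ m, γ m * p (Θ m a) = 0) → γ = 0) (v : R → T) :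
    ∃ τ : Fin N → T, ∀ m, ∑ a, τ a * Θ m a = v m := by
  classical
  let f : (Fin N → T) →ₗ[T] (R → T) := LinearMap.pi fun m => ∑ a, Θ m a • LinearMap.proj a
  have hf : ∀ τ m, f τ m = ∑ a, τ a * Θ m a := fun τ m => by simp [f, LinearMap.sum_apply, mul_comm]
  have htop : LinearMap.range f = ⊤ := by
    by_contra hne
    let Q := (R → T) ⧸ LinearMap.range f
    obtain ⟨m, hm, hle⟩ := Ideal.exists_le_maximal (Module.annihilator T Q) (by
      intro ht
      refine hne (top_le_iff.1 fun x _ => ?_)
      have := Module.mem_annihilator.1 (ht.ge (Submodule.mem_top (x := (1 : T)))) (Submodule.Quotient.mk x)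
      rw [one_smul, Submodule.Quotient.mk_eq_zero] at this
      exact this)
    obtain ⟨p, hp⟩ := exists_algHom_of_isMaximal (k := k) m
    have hN : (⊤ : Submodule T Q) ≤ m • ⊤ := by
      rintro x -
      obtain ⟨x, rfl⟩ := Submodule.Quotient.mk_surjective _ x
      let g : (Fin N → k) →ₗ[k] (R → k) := LinearMap.pi fun m => ∑ a, p (Θ m a) • LinearMap.proj a
      have hg : ∀ τ m, g τ m = ∑ a, p (Θ m a) * τ a := fun τ m => by simp [g, LinearMap.sum_apply]
      have hgs : LinearMap.range g = ⊤ := by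
        by_contra hne'
        obtain ⟨φ, hφ0, hφ⟩ := Submodule.exists_le_ker_of_lt_top _ (lt_top_iff_ne_top.2 hne')
        refine hφ0 (LinearMap.pi_ext' fun m => LinearMap.ext_ring ?_)
        have h0 := congrFun (h p (fun m => φ (Pi.single m 1)) fun a => by
          have h1 : φ (g (Pi.single a 1)) = 0 := hφ (LinearMap.mem_range_self g _)
          rw [pi_eq_sum_univ' (g (Pi.single a 1)), map_sum] at h1
          rw [← h1]
          exact Finset.sum_congr rfl fun m _ => by simp [hg, Pi.single_apply, mul_comm]) m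
        simpa using h0
      obtain ⟨τ, hτ⟩ := hgs.ge (Submodule.mem_top (x := fun i => p (x i)))
      let x' := x - f fun a => algebraMap k T (τ a)
      have e : (Submodule.Quotient.mk x : Q) = Submodule.Quotient.mk x' := by
        rw [Submodule.Quotient.eq]
        exact ⟨fun a => algebraMap k T (τ a), by simp [x']⟩
      rw [e, pi_eq_sum_univ' x', ← Submodule.mkQ_apply, map_sum]
      refine Submodule.sum_mem _ fun i _ => ?_
      rw [map_smul]
      refine Submodule.smul_mem_smul ?_ trivial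
      rw [← hp, RingHom.mem_ker]
      have := congrFun hτ i
      simp only [hg] at this
      simp [x', hf, map_sum, ← this, mul_comm]
    obtain ⟨r, hr, hr'⟩ := Submodule.exists_sub_one_mem_and_smul_eq_zero_of_fg_of_le_smul m (⊤ : Submodule T Q)
      Module.Finite.fg_top hN
    have hrm : r ∈ m := hle (Module.mem_annihilator.2 fun x => hr' x trivial)
    have := sub_mem hrm hr
    rw [sub_sub_cancel] at this
    exact hm.ne_top ((Ideal.eq_top_iff_one m).2 this)
  obtain ⟨τ, hτ⟩ := htop.ge (Submodule.mem_top (x := v))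
  exact ⟨τ, fun m => by rw [← hf, hτ]⟩

/-- The index set of the equations of a two-jet. -/
abbrev Jets (n : ℕ) : Type := (Unit ⊕ Fin n) ⊕ {P : Fin n × Fin n // P.1 ≤ P.2}

/-- The rows of a one-jet. -/
def jet1 {N : ℕ} (b : Basis (Fin n) T Ω[T⁄k]) (Φ : Fin N → T) : Unit ⊕ Fin n → Fin N → T :=
  Sum.elim (fun _ => Φ) fun l a => OdpLib.pd b l (Φ a)

variable {r d : ℕ} {X : Scheme.{u}} (ι : X ⟶ CohB1.ProjSpace r k) [IsClosedImmersion ι]
  [IsAlgClosed k] (n) [SmoothOfRelativeDimension (n + 1) (ι ≫ CohB1.ProjSpace.toSpec r k)] [IsIntegral X]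
  (j : Fin (r + 1)) (gA : Γ(X, U ι j)) (z : Fin (n + 1) → Localization.Away gA)
  (b : Basis (Fin (n + 1)) (Localization.Away gA) Ω[Localization.Away gA⁄k])
  (hb : ∀ l, b l = D k (Localization.Away gA) (z l))
include n hb

/-- Every quadratic form is the quadratic part of some member singular at a given point. -/
theorem exists_quad (hd : 2 ≤ d) (p : Localization.Away gA →ₐ[k] k)
    (e : Localization.Away gA ⊗[k] Localization.Away gA) (he : OdpLib.ev p p e = 1)
    (Tay : LefPen.Form r k d → Matrix (Fin (n + 1)) (Fin (n + 1)) (Localization.Away gA ⊗[k] Localization.Away gA))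
    (hTay : ∀ H, OdpLib.IsTaylor z b e (algebraMap _ _ (φ ι j H)) (Tay H))
    (G0 : Matrix (Fin (n + 1)) (Fin (n + 1)) k) :
    ∃ H : LefPen.Form r k d, p (algebraMap _ _ (φ ι j H)) = 0 ∧
      (∀ l, p (OdpLib.pd b l (algebraMap _ _ (φ ι j H))) = 0) ∧
      upper ((Tay H).map (OdpLib.ev p p)) = upper G0 := by
  classical
  let p₀ : Γ(X, U ι j) →ₐ[k] k := p.comp (IsScalarTower.toAlgHom k Γ(X, U ι j) (Localization.Away gA))
  obtain ⟨q, hq, h, hq'⟩ := exists_point ι j p₀
  haveI := smooth_chartRing ι (n + 1) j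
  have hgA : p₀ gA ≠ 0 := ((IsLocalization.Away.algebraMap_isUnit gA).map p).ne_zero
  obtain ⟨-, -, -, ψ, h1, h2⟩ := OdpLib.chart_data ι n (d := d) (by omega) j q hq h
  rw [hq'] at h1
  obtain ⟨p', hp', -, hψ⟩ := OdpLib.exists_extend (n := n + 1) (T := Localization.Away gA) gA p₀ hgA
  obtain rfl : p = p' := IsLocalization.algHom_ext (Submonoid.powers gA) (AlgHom.ext fun a => (hp' a).symm)
  obtain ⟨ψT, hψT, hT1, hT2⟩ := hψ ψ h1 h2
  obtain ⟨L, hL, hLz⟩ := OdpLib.exists_lin z b hb p ψT hT1 hT2
  obtain ⟨a, ha⟩ := h2 ((OdpLib.polyQ (Lᵀ * G0 * L) : MvPolynomial (Fin (n + 1)) k) : MvPowerSeries (Fin (n + 1)) k) 3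
  obtain ⟨H, hH⟩ := S4023.exists_jet ι hd j p₀ a
  refine ⟨H, ?_⟩
  have h3 : ψT (algebraMap _ _ (φ ι j H)) -
      ((OdpLib.polyQ (Lᵀ * G0 * L) : MvPolynomial (Fin (n + 1)) k) : MvPowerSeries (Fin (n + 1)) k) ∈
        maximalIdeal (MvPowerSeries (Fin (n + 1)) k) ^ 3 := by
    rw [hψT]
    have := add_mem ((h1 _ 3).2 hH) ha
    rwa [map_sub, sub_add_sub_cancel] at this
  have h4 : ψT (algebraMap _ _ (φ ι j H)) ∈ maximalIdeal (MvPowerSeries (Fin (n + 1)) k) ^ 2 := by
    have h5 := add_mem (Ideal.pow_le_pow_right (show 2 ≤ 3 by omega) h3) (show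
      ((OdpLib.polyQ (Lᵀ * G0 * L) : MvPolynomial (Fin (n + 1)) k) : MvPowerSeries (Fin (n + 1)) k) ∈
        maximalIdeal (MvPowerSeries (Fin (n + 1)) k) ^ 2 by
      rw [OdpLib.coe_polyQ]
      refine Ideal.sum_mem _ fun l _ => Ideal.sum_mem _ fun m _ => Ideal.mul_mem_left _ _ ?_
      rw [pow_two]
      exact Ideal.mul_mem_mul (OdpLib.X_mem_max l) (OdpLib.X_mem_max m))
    rwa [sub_add_cancel] at h5
  obtain ⟨hs1, hs2⟩ := (OdpLib.sing_iff_pd b p _).1 (LefDualLib.sing_of_mem_sq p ((hT1 _ 2).1 h4))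
  refine ⟨hs1, hs2, ?_⟩
  have h6 := add_mem (OdpLib.psi_taylor z b p ψT hT1 he (hTay H) hs1 hs2)
    (OdpLib.quadForm_congr L ((Tay H).map (OdpLib.ev p p)) (fun l => OdpLib.psi_sub_mem p ψT hT1 (z l)) hLz)
  simp only [Matrix.map_apply, sub_add_sub_cancel] at h6
  have h7 := sub_mem h6 h3
  rw [sub_sub_sub_cancel_left, ← MvPolynomial.coeToMvPowerSeries.ringHom_apply,
    ← MvPolynomial.coeToMvPowerSeries.ringHom_apply, ← map_sub] at h7
  have h8 := sub_eq_zero.1 (OdpLib.quad_unique ((OdpLib.polyQ_isHomogeneous _).sub (OdpLib.polyQ_isHomogeneous _)) h7)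
  refine upper_eq_of_polyQ (MvPolynomial.funext fun v => ?_)
  obtain ⟨w, rfl⟩ : ∃ w, L *ᵥ w = v := ⟨L⁻¹ *ᵥ v, by rw [mulVec_mulVec, Matrix.mul_nonsing_inv _ hL, one_mulVec]⟩
  have h9 := congrArg (MvPolynomial.eval w) h8
  simp only [OdpLib.eval_polyQ, ← mulVec_mulVec, dotProduct_mulVec w Lᵀ, vecMul_transpose] at h9 ⊢
  exact h9.symm

end Groth.Agent.PencilLib.AnyChar
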