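import Groth.Agent.PencilLib.AnyChar.Jet
import Groth.Agent.PencilLib.CharZero.Charts
import Groth.Agent.LinSecLib.Main

/-!
# Quadrics singular at two points of a linear subvariety
-/

set_option autoImplicit false
set_option maxHeartbeats 1000000
set_option backward.isDefEq.respectTransparency false
set_option backward.isDefEq.respectTransparency.types false
set_option linter.style.haveILetI false
universe u
open CategoryTheory CategoryTheory.Limits AlgebraicGeometry TopologicalSpace IsLocalRing KaehlerDifferential Module Matrix TensorProduct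
open Groth.Agent.AmpleEmb Groth.Agent.BertiniProjLib Groth.Agent.LefDualLib

noncomputable section

namespace Groth.Agent.PencilLib.AnyChar

variable {k : Type u} [Field k] {r d : ℕ} {X : Scheme.{u}} (ι : X ⟶ CohB1.ProjSpace r k) [IsClosedImmersion ι]

/-- The linear form with given coefficients. -/
def linForm (a : Fin (r + 1) → k) : LefPen.Form r k 1 :=
  ⟨∑ i, MvPolynomial.C (a i) * MvPolynomial.X i, (MvPolynomial.mem_homogeneousSubmodule _ _).2
    (MvPolynomial.IsHomogeneous.sum _ _ _ fun i _ => (MvPolynomial.isHomogeneous_X k i).C_mul _)⟩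

/-- A homogeneous coordinate as a function on a piece of a chart. -/
def co (j : Fin (r + 1)) (gA : Γ(X, U ι j)) (i : Fin (r + 1)) : Localization.Away gA :=
  algebraMap Γ(X, U ι j) (Localization.Away gA) (π ι j (PicProjLib.dehomVec r k j i))

theorem co_self (j : Fin (r + 1)) (gA : Γ(X, U ι j)) : co ι j gA j = 1 := by
  simp [co, PicProjLib.dehomVec]

theorem φ_eq_aeval (j : Fin (r + 1)) (gA : Γ(X, U ι j)) (H : LefPen.Form r k d) :
    algebraMap Γ(X, U ι j) (Localization.Away gA) (φ ι j H) = MvPolynomial.aeval (co ι j gA) H.1 := by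
  show algebraMap _ _ (π ι j (MvPolynomial.aeval (PicProjLib.dehomVec r k j) H.1)) = _
  induction H.1 using MvPolynomial.induction_on with
  | C c =>
    rw [MvPolynomial.aeval_C, MvPolynomial.aeval_C, IsScalarTower.algebraMap_apply k Γ(X, U ι j) (Localization.Away gA)]
    rfl
  | add P Q hP hQ => simp only [map_add, hP, hQ]
  | mul_X P i hP =>
    rw [map_mul, map_mul, map_mul, map_mul, hP, MvPolynomial.aeval_X, MvPolynomial.aeval_X]
    rfl

theorem φ_linForm (j : Fin (r + 1)) (gA : Γ(X, U ι j)) (a : Fin (r + 1) → k) :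
    algebraMap Γ(X, U ι j) (Localization.Away gA) (φ ι j (linForm a)) = ∑ i, a i • co ι j gA i := by
  rw [φ_eq_aeval]
  simp [linForm, Algebra.smul_def]

variable [IsAlgClosed k]

/-- Tangent vectors of a piece of a chart are independent. -/
theorem tangent_indep (hd : 1 ≤ d) (j : Fin (r + 1)) (gA : Γ(X, U ι j)) {n : ℕ} (z : Fin n → Localization.Away gA)
    (b : Basis (Fin n) (Localization.Away gA) Ω[Localization.Away gA⁄k])
    (hb : ∀ l, b l = D k (Localization.Away gA) (z l)) {N : ℕ} (B : Basis (Fin N) k (LefPen.Form r k d))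
    (L : Type u) [Field L] [Algebra k L] (χ : Localization.Away gA →ₐ[k] L) (β : Fin n → L)
    (h : (∑ l, β l • fun i => χ (OdpLib.pd b l (co ι j gA i))) = 0) : β = 0 := by
  refine CharZero.hgen_away ι hd j gA z b hb B L χ β fun a => ?_
  have e : ∀ l, χ (OdpLib.pd b l (algebraMap Γ(X, U ι j) (Localization.Away gA) (φ ι j (B a)))) =
      ∑ i, χ (MvPolynomial.aeval (co ι j gA) (MvPolynomial.pderiv i (B a).1)) * χ (OdpLib.pd b l (co ι j gA i)) :=
    fun l => by
      rw [φ_eq_aeval, LinSecLib.derivation_aeval, map_sum]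
      exact Finset.sum_congr rfl fun i _ => by rw [smul_eq_mul, map_mul]
  simp only [e, Finset.mul_sum]
  rw [Finset.sum_comm]
  refine Finset.sum_eq_zero fun i _ => ?_
  have h1 := congrFun h i
  simp only [Finset.sum_apply, Pi.smul_apply, smul_eq_mul, Pi.zero_apply] at h1
  rw [← mul_zero (χ (MvPolynomial.aeval (co ι j gA) (MvPolynomial.pderiv i (B a).1))), ← h1, Finset.mul_sum]
  exact Finset.sum_congr rfl fun l _ => by ring

variable (n : ℕ) [SmoothOfRelativeDimension (n + 1) (ι ≫ CohB1.ProjSpace.toSpec r k)] [IsIntegral X]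
include n

/-- A quadric with two singular points on a linear subvariety is degenerate. -/
theorem not_nd_linear (j j' : Fin (r + 1)) (gA : Γ(X, U ι j)) (gA' : Γ(X, U ι j'))
    (z : Fin (n + 1) → Localization.Away gA) (b : Basis (Fin (n + 1)) (Localization.Away gA) Ω[Localization.Away gA⁄k])
    (hb : ∀ l, b l = D k (Localization.Away gA) (z l))
    (z' : Fin (n + 1) → Localization.Away gA') (b' : Basis (Fin (n + 1)) (Localization.Away gA') Ω[Localization.Away gA'⁄k])
    (hb' : ∀ l, b' l = D k (Localization.Away gA') (z' l)) (H : LefPen.Form r k 2)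
    (p : Localization.Away gA →ₐ[k] k) (p' : Localization.Away gA' →ₐ[k] k)
    (hs : CharZero.IsSing b p (algebraMap _ _ (φ ι j H))) (hs' : CharZero.IsSing b' p' (algebraMap _ _ (φ ι j' H)))
    (hprop : ∃ i, p' (co ι j' gA' i) ≠ p' (co ι j' gA' j) * p (co ι j gA i))
    (hline : ∀ p'' : Localization.Away gA' →ₐ[k] k, ∃ β : Fin (n + 1) → k, ∀ i,
      ∑ l, β l * p (OdpLib.pd b l (co ι j gA i)) = p'' (co ι j' gA' i) - p'' (co ι j' gA' j) * p (co ι j gA i))
    (e : Localization.Away gA ⊗[k] Localization.Away gA) (he : OdpLib.ev p p e = 1)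
    (g : Matrix (Fin (n + 1)) (Fin (n + 1)) (Localization.Away gA ⊗[k] Localization.Away gA))
    (hg : OdpLib.IsTaylor z b e (algebraMap _ _ (φ ι j H)) g) : ¬ OdpLib.ND (g.map (OdpLib.ev p p)) := by
  classical
  intro hnd
  let BF := Module.finBasis k (LefPen.Form r k 2)
  let x : Fin (r + 1) → Localization.Away gA := co ι j gA
  let x' : Fin (r + 1) → Localization.Away gA' := co ι j' gA'
  let B : Fin (n + 2) → Fin (r + 1) → k := Fin.cons (fun i => p (x i)) fun l i => p (OdpLib.pd b l (x i))
  have hBind : LinearIndependent k B := by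
    rw [Fintype.linearIndependent_iff]
    intro c hc
    have hcj := congrFun hc j
    simp only [B, Fin.sum_univ_succ, Fin.cons_zero, Fin.cons_succ, Finset.sum_apply, Pi.add_apply, Pi.smul_apply,
      smul_eq_mul, x, co_self, map_one, mul_one, Derivation.map_one_eq_zero, map_zero, mul_zero, Finset.sum_const_zero,
      add_zero, Pi.zero_apply] at hcj
    have hrest := tangent_indep ι (d := 2) (by omega) j gA z b hb BF k p (fun l => c l.succ) (by
      have := hc
      rw [Fin.sum_univ_succ] at this
      simpa [B, hcj] using this)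
    intro i
    cases i using Fin.cases with
    | zero => exact hcj
    | succ l => exact congrFun hrest l
  obtain ⟨Λ, hΛ⟩ := LinSecLib.exists_leftInverse_coeff B hBind
  let ℓ : Fin (r + 1) → Fin (r + 1) → k := fun i m => (if m = i then 1 else 0) - ∑ c, B c i * Λ c m
  have hℓB : ∀ i c, ∑ m, ℓ i m * B c m = 0 := by
    intro i c
    simp only [ℓ, sub_mul, Finset.sum_sub_distrib, ite_mul, one_mul, zero_mul, Finset.sum_ite_eq', Finset.mem_univ,
      if_true, Finset.sum_mul, mul_assoc]
    rw [Finset.sum_comm]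
    simp [← Finset.mul_sum, hΛ]
  haveI := smooth_chartRing ι (n + 1) j'
  obtain ⟨y', -, -, -, hy'⟩ := exists_gens ι (d := 1) le_rfl j'
  haveI : Algebra.FiniteType k Γ(X, U ι j') := Algebra.FiniteType.of_surjective _ hy'
  haveI : Algebra.FiniteType Γ(X, U ι j') (Localization.Away gA') :=
    haveI := IsLocalization.Away.finitePresentation (S := Localization.Away gA') gA'; inferInstance
  haveI : Algebra.FiniteType k (Localization.Away gA') :=
    Algebra.FiniteType.trans (S := Γ(X, U ι j')) inferInstance inferInstance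
  let p₀ : Γ(X, U ι j) →ₐ[k] k := p.comp (IsScalarTower.toAlgHom k Γ(X, U ι j) (Localization.Away gA))
  let p₀' : Γ(X, U ι j') →ₐ[k] k := p'.comp (IsScalarTower.toAlgHom k Γ(X, U ι j') (Localization.Away gA'))
  obtain ⟨q, hq, h, hqp⟩ := exists_point ι j p₀
  obtain ⟨q', -, h', -⟩ := exists_point ι j' p₀'
  haveI : Nonempty (U ι j') := ⟨⟨_, h'⟩⟩
  haveI : IsDomain Γ(X, U ι j') := inferInstance
  have hgA' : gA' ≠ 0 := by
    intro h0
    have := ((IsLocalization.Away.algebraMap_isUnit (S := Localization.Away gA') gA').map p').ne_zero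
    exact this ((congrArg (fun t => p' (algebraMap Γ(X, U ι j') (Localization.Away gA') t)) h0).trans
      (by rw [map_zero, map_zero]))
  have hpow : Submonoid.powers gA' ≤ nonZeroDivisors Γ(X, U ι j') :=
    powers_le_nonZeroDivisors_of_noZeroDivisors hgA'
  haveI : IsDomain (Localization.Away gA') :=
    IsLocalization.isDomain_localization hpow
  have hzero' : ∀ i, algebraMap _ (Localization.Away gA') (φ ι j' (linForm (ℓ i))) = 0 := by
    intro i
    by_contra hne
    have hnil : ¬ IsNilpotent (algebraMap _ (Localization.Away gA') (φ ι j' (linForm (ℓ i)))) := fun h => hne h.eq_zero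
    haveI : IsJacobsonRing (Localization.Away gA') := isJacobsonRing_of_finiteType (A := k)
    obtain ⟨m, hm, hmem⟩ : ∃ m : Ideal (Localization.Away gA'), m.IsMaximal ∧
        algebraMap _ (Localization.Away gA') (φ ι j' (linForm (ℓ i))) ∉ m := by
      by_contra! hcon
      refine hnil (mem_nilradical.1 ?_)
      rw [nilradical, Ideal.zero_eq_bot, (Ideal.isPrime_bot (α := Localization.Away gA')).radical,
        ← IsJacobsonRing.out inferInstance (Ideal.isPrime_bot (α := Localization.Away gA')).isRadical,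
        Ideal.jacobson, Submodule.mem_sInf]
      exact fun m hm => hcon m hm.2
    obtain ⟨p'', hp''⟩ := exists_algHom_of_isMaximal (k := k) m
    refine hmem ?_
    rw [← hp'', RingHom.mem_ker, φ_linForm, map_sum]
    simp only [map_smul, smul_eq_mul]
    obtain ⟨β, hβ⟩ := hline p''
    have hpe : ∀ m, p'' (x' m) = p'' (x' j) * B 0 m + ∑ l, β l * B l.succ m := fun m => by
      simp only [B, Fin.cons_zero, Fin.cons_succ, x, x', hβ m]; ring
    rw [show co ι j' gA' = x' from rfl, Finset.sum_congr rfl fun m (_ : m ∈ Finset.univ) =>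
      congrArg (ℓ i m * ·) (hpe m)]
    simp only [mul_add, Finset.sum_add_distrib, Finset.mul_sum]
    rw [Finset.sum_comm]
    have h0 : ∑ m, ℓ i m * (p'' (x' j) * B 0 m) = 0 := by
      rw [← mul_zero (p'' (x' j)), ← hℓB i 0, Finset.mul_sum]
      exact Finset.sum_congr rfl fun m _ => by ring
    rw [h0, zero_add]
    refine Finset.sum_eq_zero fun l _ => ?_
    rw [← mul_zero (β l), ← hℓB i l.succ, Finset.mul_sum]
    exact Finset.sum_congr rfl fun m _ => by ring
  have hzero : ∀ i, algebraMap _ (Localization.Away gA) (φ ι j (linForm (ℓ i))) = 0 := fun i => by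
    rw [OdpLib.φ_eq_zero ι (linForm (ℓ i)) j' j (fun he => by
      obtain ⟨y, hy⟩ := nonempty_preirreducible_inter (U ι j').isOpen (U ι j).isOpen ⟨_, h'⟩ ⟨_, h⟩
      exact (he.le hy : y ∈ (⊥ : X.Opens)))
      (IsLocalization.injective (Localization.Away gA') hpow ((hzero' i).trans (map_zero _).symm)), map_zero]
  let W : Fin (n + 2) → Localization.Away gA := fun c => ∑ m, Λ c m • x m
  let W' : Fin (n + 2) → Localization.Away gA' := fun c => ∑ m, Λ c m • x' m
  have hexp : ∀ {S : Type u} [CommRing S] [Algebra k S] (y : Fin (r + 1) → S) (_ : ∀ i, ∑ m, ℓ i m • y m = 0) (i),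
      y i = ∑ c, B c i • ∑ m, Λ c m • y m := fun {S} _ _ y hy i => by
    have := hy i
    simp only [ℓ, sub_smul, Finset.sum_sub_distrib, ite_smul, one_smul, zero_smul, Finset.sum_ite_eq', Finset.mem_univ,
      if_true, sub_eq_zero, Finset.sum_smul] at this
    rw [this, Finset.sum_comm]
    simp only [Finset.smul_sum, smul_smul]
  have hx : ∀ i, x i = ∑ c, B c i • W c := hexp x fun i => (φ_linForm ι j gA (ℓ i)).symm.trans (hzero i)
  have hx' : ∀ i, x' i = ∑ c, B c i • W' c := hexp x' fun i => (φ_linForm ι j' gA' (ℓ i)).symm.trans (hzero' i)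
  obtain ⟨G, hG⟩ := OdpLib.exists_matrix_of_homogeneous H.1 ((MvPolynomial.mem_homogeneousSubmodule _ _).1 H.2)
  let Q : Matrix (Fin (n + 2)) (Fin (n + 2)) k := fun c e => ∑ i, ∑ m, B c i * G i m * B e m
  have hquad : ∀ {S : Type u} [CommRing S] [Algebra k S] (y : Fin (r + 1) → S) (V : Fin (n + 2) → S)
      (_ : ∀ i, y i = ∑ c, B c i • V c), MvPolynomial.aeval y H.1 = ∑ c, ∑ e, Q c e • (V c * V e) := by
    intro S _ _ y V hy
    rw [← hG]
    simp only [OdpLib.polyQ, map_sum, map_mul, MvPolynomial.aeval_C, MvPolynomial.aeval_X, ← Algebra.smul_def, hy,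
      Finset.sum_mul_sum, Finset.smul_sum, smul_mul_smul_comm, smul_smul, Q, Finset.sum_smul]
    conv_lhs => enter [2, i]; rw [Finset.sum_comm]
    rw [Finset.sum_comm]
    refine Finset.sum_congr rfl fun c _ => ?_
    conv_lhs => enter [2, i]; rw [Finset.sum_comm]
    rw [Finset.sum_comm]
    exact Finset.sum_congr rfl fun e _ => Finset.sum_congr rfl fun i _ => Finset.sum_congr rfl fun m _ => by ring_nf
  have hφ := (φ_eq_aeval ι j gA H).trans (hquad x W hx)
  have hφ' := (φ_eq_aeval ι j' gA' H).trans (hquad x' W' hx')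
  have hW : ∀ c, p (W c) = if c = 0 then 1 else 0 := fun c => by
    have := hΛ c 0
    simpa [W, B, map_sum, eq_comm] using this
  have hdW : ∀ m c, p (OdpLib.pd b m (W c)) = if c = m.succ then 1 else 0 := fun m c => by
    have := hΛ c m.succ
    simpa [W, B, map_sum, Derivation.map_smul] using this
  have hQ0 : Q 0 0 = 0 := by
    have := hs.1
    rw [hφ] at this
    simpa [map_sum, hW] using this
  have hQl : ∀ l, Q 0 (Fin.succ l) + Q (Fin.succ l) 0 = 0 := fun l => by
    have := hs.2 l
    rw [hφ] at this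
    simp only [map_sum, Derivation.map_smul, map_smul, Derivation.leibniz, smul_eq_mul, map_add, map_mul, hW, hdW,
      mul_add, Finset.sum_add_distrib, ite_mul, one_mul, zero_mul, mul_ite, mul_one, mul_zero, Finset.sum_ite_eq',
      Finset.mem_univ, if_true, Finset.sum_ite_irrel, Finset.sum_const_zero] at this
    rw [← this]
  let u : Fin (n + 2) → k := fun c => p' (W' c)
  let Dm : Fin (n + 1) → Fin (n + 2) → k := fun m c => p' (OdpLib.pd b' m (W' c))
  have huQ : ∑ c, ∑ e, Q c e * (u c * u e) = 0 := by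
    have := hs'.1
    rw [hφ'] at this
    simpa [map_sum, u] using this
  let E : Fin (n + 2) → k := fun c => ∑ e, (Q c e + Q e c) * u e
  have hDE : ∀ m, ∑ c, Dm m c * E c = 0 := fun m => by
    have := hs'.2 m
    rw [hφ'] at this
    simp only [map_sum, Derivation.map_smul, map_smul, Derivation.leibniz, smul_eq_mul, map_add, map_mul, mul_add,
      Finset.sum_add_distrib] at this
    rw [← this]
    simp only [E, Finset.mul_sum, mul_add, add_mul, Finset.sum_add_distrib]
    rw [add_comm]
    congr 1
    · rw [Finset.sum_comm]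
      exact Finset.sum_congr rfl fun c _ => Finset.sum_congr rfl fun e _ => by simp only [u, Dm]; ring
    · exact Finset.sum_congr rfl fun c _ => Finset.sum_congr rfl fun e _ => by simp only [u, Dm]; ring
  have huE : ∑ c, u c * E c = 0 := by
    simp only [E, Finset.mul_sum, mul_add, add_mul, Finset.sum_add_distrib]
    rw [Finset.sum_comm (f := fun c e => u c * (Q e c * u e))]
    have h2 : ∑ c, ∑ e, u c * (Q c e * u e) = 0 := by
      rw [← huQ]; exact Finset.sum_congr rfl fun c _ => Finset.sum_congr rfl fun e _ => by ring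
    have h3 : ∑ c, ∑ e, u e * (Q c e * u c) = 0 := by
      rw [← huQ]; exact Finset.sum_congr rfl fun c _ => Finset.sum_congr rfl fun e _ => by ring
    rw [h2, h3, add_zero]
  let M : Matrix (Fin (n + 2)) (Fin (n + 2)) k := Matrix.of (Fin.cons u Dm)
  have hMinj : M.det ≠ 0 := by
    intro h0
    obtain ⟨c, hc, hcM⟩ := exists_vecMul_eq_zero_iff.2 h0
    have hx'v : ∀ i, p' (x' i) = ∑ e, B e i * u e := fun i => by simp [hx' i, map_sum, u]
    have hdx' : ∀ m i, p' (OdpLib.pd b' m (x' i)) = ∑ e, B e i * Dm m e := fun m i => by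
      simp [hx' i, map_sum, Derivation.map_smul, Dm]
    have hz : ∀ i, c 0 * p' (x' i) + ∑ m, c (Fin.succ m) * p' (OdpLib.pd b' m (x' i)) = 0 := fun i => by
      have : ∀ e, c 0 * u e + ∑ m, c (Fin.succ m) * Dm m e = 0 := fun e => by
        have := congrFun hcM e
        simpa [M, vecMul, dotProduct, Fin.sum_univ_succ] using this
      simp only [hx'v, hdx', Finset.mul_sum]
      rw [Finset.sum_comm, ← Finset.sum_add_distrib]
      refine Finset.sum_eq_zero fun e _ => ?_
      rw [← mul_zero (B e i), ← this e, mul_add, Finset.mul_sum]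
      congr 1
      · ring
      · exact Finset.sum_congr rfl fun m _ => by ring
    have hj0 : c 0 = 0 := by
      have := hz j'
      simpa [x', co_self] using this
    have hrest := tangent_indep ι (d := 2) (by omega) j' gA' z' b' hb' BF k p' (fun m => c m.succ) (funext fun i => by
      have := hz i
      simpa [hj0, x', Finset.sum_apply] using this)
    exact hc (funext fun i => by cases i using Fin.cases with
      | zero => exact hj0
      | succ m => exact congrFun hrest m)
  have hE : E = 0 := by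
    refine mulVec_injective_iff_isUnit.2 ((isUnit_iff_isUnit_det _).2 (isUnit_iff_ne_zero.2 hMinj)) ?_
    rw [mulVec_zero]
    funext c
    cases c using Fin.cases with
    | zero => simpa [M, mulVec, dotProduct] using huE
    | succ m => simpa [M, mulVec, dotProduct] using hDE m
  let Qs : Matrix (Fin (n + 1)) (Fin (n + 1)) k := fun l m => Q l.succ m.succ
  have hφs : algebraMap _ (Localization.Away gA) (φ ι j H) = ∑ l, ∑ m, Qs l m • (W l.succ * W m.succ) := by
    rw [hφ, Fin.sum_univ_succ, Fin.sum_univ_succ, hQ0, zero_smul, zero_add]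
    simp only [Fin.sum_univ_succ (n := n + 1), Finset.sum_add_distrib, Qs]
    rw [← add_assoc, ← Finset.sum_add_distrib, Finset.sum_eq_zero (fun l _ => by
      rw [mul_comm (W l.succ) (W 0), ← add_smul, hQl, zero_smul]), zero_add]
  obtain ⟨-, -, -, ψ, h1, h2⟩ := OdpLib.chart_data ι n (d := 1) le_rfl j q hq h
  rw [hqp] at h1
  have hgA : p₀ gA ≠ 0 := ((IsLocalization.Away.algebraMap_isUnit gA).map p).ne_zero
  haveI := smooth_chartRing ι (n + 1) j
  obtain ⟨p1, hp1, -, hψ⟩ := OdpLib.exists_extend (n := n + 1) (T := Localization.Away gA) gA p₀ hgA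
  obtain rfl : p = p1 := IsLocalization.algHom_ext (Submonoid.powers gA) (AlgHom.ext fun a => (hp1 a).symm)
  obtain ⟨ψT, -, hT1, hT2⟩ := hψ ψ h1 h2
  obtain ⟨L, hL, hLz⟩ := OdpLib.exists_lin z b hb p ψT hT1 hT2
  have hWM : ∀ l : Fin (n + 1), ψT (W l.succ) ∈ maximalIdeal (MvPowerSeries (Fin (n + 1)) k) := fun l => by
    have := OdpLib.psi_sub_mem p ψT hT1 (W l.succ)
    rwa [hW, if_neg (Fin.succ_ne_zero l), map_zero, sub_zero] at this
  have hWL : ∀ l : Fin (n + 1), ψT (W l.succ) - ∑ i, MvPowerSeries.C (L l i) * MvPowerSeries.X i ∈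
      maximalIdeal (MvPowerSeries (Fin (n + 1)) k) ^ 2 := fun l => by
    have hsing : Sing p (W l.succ - (z l - algebraMap k _ (p (z l)))) := by
      refine (OdpLib.sing_iff_pd b p _).2 ⟨by simp [hW], fun m => ?_⟩
      simp only [map_sub, hdW, Derivation.map_algebraMap, sub_zero, OdpLib.pd_z z b hb, Fin.succ_inj,
        apply_ite p, map_one, map_zero, sub_self]
    have h3 := add_mem ((hT1 _ 2).2 (LefDualLib.mem_sq_of_sing p hsing)) (hLz l)
    rw [map_sub, map_sub, AlgHom.commutes] at h3
    convert h3 using 1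
    simp only [MvPowerSeries.algebraMap_apply, Algebra.algebraMap_self, RingHom.id_apply]
    ring
  have h4 := OdpLib.quadForm_congr L Qs hWM hWL
  rw [show (∑ l, ∑ m, MvPowerSeries.C (Qs l m) * (ψT (W l.succ) * ψT (W m.succ))) =
      ψT (algebraMap _ _ (φ ι j H)) by
    simp only [hφs, map_sum, Algebra.smul_def, map_mul, AlgHom.commutes, MvPowerSeries.algebraMap_apply,
      Algebra.algebraMap_self, RingHom.id_apply]] at h4
  have h5 := add_mem (OdpLib.psi_taylor z b p ψT hT1 he hg hs.1 hs.2)
    (OdpLib.quadForm_congr L (g.map (OdpLib.ev p p)) (fun l => OdpLib.psi_sub_mem p ψT hT1 (z l)) hLz)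
  simp only [Matrix.map_apply, sub_add_sub_cancel] at h5
  have h6 := sub_mem h4 h5
  rw [sub_sub_sub_cancel_left, ← MvPolynomial.coeToMvPowerSeries.ringHom_apply,
    ← MvPolynomial.coeToMvPowerSeries.ringHom_apply, ← map_sub] at h6
  have h7 := sub_eq_zero.1 (OdpLib.quad_unique ((OdpLib.polyQ_isHomogeneous _).sub (OdpLib.polyQ_isHomogeneous _)) h6)
  have h8 := (OdpLib.nd_of_polyQ_eq h7 (hnd.congr hL)).congr (L := L⁻¹) (Matrix.isUnit_nonsing_inv_det L hL)
  rw [Matrix.transpose_nonsing_inv, Matrix.mul_assoc, Matrix.mul_assoc, Matrix.mul_nonsing_inv _ hL, mul_one,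
    ← Matrix.mul_assoc, Matrix.nonsing_inv_mul _ (by rwa [Matrix.det_transpose]), one_mul] at h8
  have hv : (fun l : Fin (n + 1) => u l.succ) = 0 := by
    refine h8 _ ?_ (funext fun l => ?_)
    · have h9 := huQ
      rw [Fin.sum_univ_succ, Fin.sum_univ_succ, hQ0, zero_mul, zero_add] at h9
      simp only [Fin.sum_univ_succ (n := n + 1), Finset.sum_add_distrib] at h9
      rw [← add_assoc, ← Finset.sum_add_distrib, Finset.sum_eq_zero (fun l _ => by
        rw [mul_comm (u l.succ) (u 0), ← add_mul, hQl, zero_mul]), zero_add] at h9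
      rw [← h9]
      simp only [dotProduct, mulVec, Qs, Finset.mul_sum]
      exact Finset.sum_congr rfl fun l _ => Finset.sum_congr rfl fun m _ => by ring
    · have h9 := congrFun hE l.succ
      simp only [E, Pi.zero_apply] at h9
      rw [Fin.sum_univ_succ, add_comm (Q l.succ 0) (Q 0 l.succ), hQl, zero_mul, zero_add] at h9
      simp only [mulVec, dotProduct, Qs, Matrix.add_apply, Matrix.transpose_apply, Pi.zero_apply]
      exact h9
  obtain ⟨i, hi⟩ := hprop
  have hu : ∀ i, p' (x' i) = u 0 * p (x i) := fun i => by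
    have : ∀ l : Fin (n + 1), u l.succ = 0 := fun l => congrFun hv l
    rw [hx' i, map_sum, Fin.sum_univ_succ, Finset.sum_eq_zero (fun l _ => by
      rw [map_smul, show p' (W' l.succ) = 0 from this l, smul_zero]), add_zero, map_smul, smul_eq_mul, mul_comm]
    rfl
  have hu0 : p' (x' j) = u 0 := by rw [hu j]; simp [x, co_self]
  exact hi (by show p' (x' i) = p' (x' j) * p (x i); rw [hu i, hu0])

end Groth.Agent.PencilLib.AnyChar
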