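import Groth.Agent.LinSecLib.Basic
import Mathlib.RingTheory.MvPolynomial.Homogeneous

/-!
# Relations between the one-jets of forms at two points
-/

set_option autoImplicit false
set_option maxHeartbeats 1000000
set_option backward.isDefEq.respectTransparency false
universe u
open MvPolynomial Matrix

noncomputable section

namespace Groth.Agent.PencilLib.AnyChar

variable {k : Type u} [Field k] {L : Type u} [Field L] [Algebra k L] {r n d : ℕ}

/-- The derivative of a polynomial at a point along a vector. -/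
def dir (P : MvPolynomial (Fin (r + 1)) L) (x v : Fin (r + 1) → L) : L := ∑ i, eval x (pderiv i P) * v i

/-- A linear form. -/
def lin (a : Fin (r + 1) → L) : MvPolynomial (Fin (r + 1)) L := ∑ i, C (a i) * X i

theorem dir_mul (P Q : MvPolynomial (Fin (r + 1)) L) (x v : Fin (r + 1) → L) :
    dir (P * Q) x v = eval x P * dir Q x v + eval x Q * dir P x v := by
  simp only [dir, pderiv_mul, map_add, map_mul, Finset.mul_sum, ← Finset.sum_add_distrib]
  exact Finset.sum_congr rfl fun i _ => by ring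

theorem eval_lin (a x : Fin (r + 1) → L) : eval x (lin a) = a ⬝ᵥ x := by simp [lin, dotProduct]

theorem dir_lin (a x v : Fin (r + 1) → L) : dir (lin a) x v = a ⬝ᵥ v := by
  classical
  simp [dir, lin, dotProduct, pderiv_X, Pi.single_apply, apply_ite (eval x)]

theorem dir_pow (a x v : Fin (r + 1) → L) (h : a ⬝ᵥ x = 1) (e : ℕ) : dir (lin a ^ e) x v = e * (a ⬝ᵥ v) := by
  induction e with
  | zero => simp [dir]
  | succ e ih => rw [pow_succ, dir_mul, map_pow, eval_lin, h, one_pow, ih, dir_lin]; push_cast; ring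

theorem isHomogeneous_lin (a : Fin (r + 1) → L) : (lin a).IsHomogeneous 1 :=
  IsHomogeneous.sum _ _ _ fun i _ => (isHomogeneous_X L i).C_mul _

/-- The combination of the jets of a form at two points. -/
def pairing (ξ η : Fin (r + 1) → L) (t t' : Fin n → Fin (r + 1) → L) (γ : (Unit ⊕ Fin n) ⊕ (Unit ⊕ Fin n) → L)
    (P : MvPolynomial (Fin (r + 1)) L) : L :=
  γ (Sum.inl (Sum.inl ())) * eval ξ P + (∑ l, γ (Sum.inl (Sum.inr l)) * dir P ξ (t l)) +
    (γ (Sum.inr (Sum.inl ())) * eval η P + ∑ l, γ (Sum.inr (Sum.inr l)) * dir P η (t' l))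

theorem pairing_eq_zero (ξ η : Fin (r + 1) → L) (t t' : Fin n → Fin (r + 1) → L)
    (γ : (Unit ⊕ Fin n) ⊕ (Unit ⊕ Fin n) → L)
    (h : ∀ H : MvPolynomial (Fin (r + 1)) k, H.IsHomogeneous d → pairing ξ η t t' γ (MvPolynomial.map (algebraMap k L) H) = 0)
    {P : MvPolynomial (Fin (r + 1)) L} (hP : P.IsHomogeneous d) : pairing ξ η t t' γ P = 0 := by
  classical
  have hadd : ∀ (x v : Fin (r + 1) → L) (s : Finset (Fin (r + 1) →₀ ℕ)) (f : (Fin (r + 1) →₀ ℕ) → MvPolynomial (Fin (r + 1)) L),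
      dir (∑ c ∈ s, f c) x v = ∑ c ∈ s, dir (f c) x v := fun x v s f => by
    simp only [dir, map_sum, Finset.sum_mul]
    exact Finset.sum_comm
  have hC : ∀ (x v : Fin (r + 1) → L) (a : L) (Q : MvPolynomial (Fin (r + 1)) L), dir (C a * Q) x v = a * dir Q x v :=
    fun x v a Q => by rw [dir_mul, eval_C]; simp [dir]
  rw [P.as_sum]
  simp only [pairing, map_sum, hadd, Finset.mul_sum]
  rw [Finset.sum_comm (s := Finset.univ), Finset.sum_comm (s := Finset.univ)]
  simp only [← Finset.sum_add_distrib]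
  refine Finset.sum_eq_zero fun c hc => ?_
  have e : monomial c (P.coeff c) = C (P.coeff c) * MvPolynomial.map (algebraMap k L) (monomial c 1) := by
    rw [map_monomial, map_one, C_mul_monomial, mul_one]
  have h0 := h (monomial c 1) (isHomogeneous_monomial _ (by
    rw [Finsupp.degree_eq_weight_one]; exact hP (mem_support_iff.1 hc)))
  simp only [pairing] at h0
  simp only [e, map_mul, eval_C, hC, ← mul_assoc, mul_comm _ (P.coeff c)]
  simp only [mul_assoc, ← Finset.mul_sum, ← mul_add, h0, mul_zero]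

/-- The one-jets at two points are independent, except along a common tangent line for quadrics. -/
theorem rel (hd : 2 ≤ d) (ξ η : Fin (r + 1) → L) (j j' : Fin (r + 1)) (hξ : ξ j = 1) (hη : η j' = 1)
    (hne : ∃ i, η i ≠ η j * ξ i) (t t' : Fin n → Fin (r + 1) → L) (ht : ∀ l, t l j = 0) (ht' : ∀ l, t' l j' = 0)
    (hind : ∀ β : Fin n → L, ∑ l, β l • t l = 0 → β = 0) (hind' : ∀ β : Fin n → L, ∑ l, β l • t' l = 0 → β = 0) :
    ∃ b : Fin (r + 1) → L, ∀ γ,
      (∀ H : MvPolynomial (Fin (r + 1)) k, H.IsHomogeneous d →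
        pairing ξ η t t' γ (MvPolynomial.map (algebraMap k L) H) = 0) →
      (∑ l, γ (Sum.inl (Sum.inr l)) • t l = (b ⬝ᵥ ∑ l, γ (Sum.inl (Sum.inr l)) • t l) • (η - η j • ξ)) ∧
      (b ⬝ᵥ (∑ l, γ (Sum.inl (Sum.inr l)) • t l) = 0 → γ = 0) ∧
      (3 ≤ d → b ⬝ᵥ (∑ l, γ (Sum.inl (Sum.inr l)) • t l) = 0) := by
  classical
  obtain ⟨i₀, hi₀⟩ := hne
  let δ := η i₀ - ξ i₀ * η j
  have hδ : δ ≠ 0 := sub_ne_zero.2 (by rw [mul_comm]; exact hi₀)
  let e : Fin (r + 1) → Fin (r + 1) → L := fun i => Pi.single i 1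
  let b : Fin (r + 1) → L := δ⁻¹ • (e i₀ - ξ i₀ • e j)
  let a : Fin (r + 1) → L := e j - η j • b
  have hb : ∀ x, b ⬝ᵥ x = δ⁻¹ * (x i₀ - ξ i₀ * x j) := fun x => by simp [b, e, sub_dotProduct, smul_dotProduct]
  have ha : ∀ x, a ⬝ᵥ x = x j - η j * (b ⬝ᵥ x) := fun x => by simp [a, e, sub_dotProduct, smul_dotProduct]
  have bξ : b ⬝ᵥ ξ = 0 := by rw [hb, hξ, mul_one, sub_self, mul_zero]
  have bη : b ⬝ᵥ η = 1 := by rw [hb]; exact inv_mul_cancel₀ hδ
  have aξ : a ⬝ᵥ ξ = 1 := by rw [ha, bξ, mul_zero, sub_zero, hξ]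
  have aη : a ⬝ᵥ η = 0 := by rw [ha, bη, mul_one, sub_self]
  refine ⟨b, fun γ hγ => ?_⟩
  let α := γ (Sum.inl (Sum.inl ()))
  let α' := γ (Sum.inr (Sum.inl ()))
  let v := ∑ l, γ (Sum.inl (Sum.inr l)) • t l
  let v' := ∑ l, γ (Sum.inr (Sum.inr l)) • t' l
  show (v = (b ⬝ᵥ v) • (η - η j • ξ)) ∧ (b ⬝ᵥ v = 0 → γ = 0) ∧ (3 ≤ d → b ⬝ᵥ v = 0)
  have hpair : ∀ P, pairing ξ η t t' γ P = α * eval ξ P + dir P ξ v + (α' * eval η P + dir P η v') := fun P => by
    simp only [pairing, dir, v, v', α, α', Finset.sum_apply, Pi.smul_apply, smul_eq_mul, Finset.mul_sum]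
    congr 2
    · rw [Finset.sum_comm]; exact Finset.sum_congr rfl fun _ _ => Finset.sum_congr rfl fun _ _ => by ring
    · rw [Finset.sum_comm]; exact Finset.sum_congr rfl fun _ _ => Finset.sum_congr rfl fun _ _ => by ring
  let A := a + b
  have Aξ : A ⬝ᵥ ξ = 1 := by simp [A, add_dotProduct, aξ, bξ]
  have Aη : A ⬝ᵥ η = 1 := by simp [A, add_dotProduct, aη, bη]
  have main : ∀ p q, α * ((p ⬝ᵥ ξ) * (q ⬝ᵥ ξ)) + ((p ⬝ᵥ ξ) * (q ⬝ᵥ v) + (q ⬝ᵥ ξ) * (p ⬝ᵥ v) +
      (p ⬝ᵥ ξ) * (q ⬝ᵥ ξ) * ((d - 2 : ℕ) * (A ⬝ᵥ v))) +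
      (α' * ((p ⬝ᵥ η) * (q ⬝ᵥ η)) + ((p ⬝ᵥ η) * (q ⬝ᵥ v') + (q ⬝ᵥ η) * (p ⬝ᵥ v') +
        (p ⬝ᵥ η) * (q ⬝ᵥ η) * ((d - 2 : ℕ) * (A ⬝ᵥ v')))) = 0 := by
    intro p q
    have hh : (lin p * lin q * lin A ^ (d - 2)).IsHomogeneous d := by
      have := ((isHomogeneous_lin p).mul (isHomogeneous_lin q)).mul ((isHomogeneous_lin A).pow (d - 2))
      rwa [show 1 + 1 + 1 * (d - 2) = d by omega] at this
    have h0 := pairing_eq_zero ξ η t t' γ hγ hh
    rw [hpair, dir_mul _ _ ξ v, dir_mul _ _ η v', dir_mul _ _ ξ v, dir_mul _ _ η v', dir_pow _ _ _ Aξ, dir_pow _ _ _ Aη] at h0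
    simp only [map_mul, map_pow, eval_lin, dir_lin, Aξ, Aη, one_pow, mul_one, one_mul] at h0
    linear_combination h0
  have hℓ : ∀ l : Fin (r + 1) → L, l ⬝ᵥ ξ = 0 → l ⬝ᵥ η = 0 → l ⬝ᵥ v = 0 ∧ l ⬝ᵥ v' = 0 := fun l h1 h2 => by
    have e1 := main a l
    have e2 := main b l
    rw [aξ, aη, h1, h2] at e1
    rw [bξ, bη, h1, h2] at e2
    simp only [one_mul, zero_mul, mul_zero, add_zero, zero_add] at e1 e2
    exact ⟨e1, e2⟩
  have hdec : ∀ w : Fin (r + 1) → L, (∀ l, l ⬝ᵥ ξ = 0 → l ⬝ᵥ η = 0 → l ⬝ᵥ w = 0) → w = (a ⬝ᵥ w) • ξ + (b ⬝ᵥ w) • η := by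
    intro w hw
    funext i
    have := hw (e i - ξ i • a - η i • b) (by simp [e, sub_dotProduct, smul_dotProduct, aξ, bξ])
      (by simp [e, sub_dotProduct, smul_dotProduct, aη, bη])
    simp only [e, sub_dotProduct, smul_dotProduct, single_dotProduct, one_mul, smul_eq_mul] at this
    simp only [Pi.add_apply, Pi.smul_apply, smul_eq_mul]
    linear_combination this
  have hv := hdec v fun l h1 h2 => (hℓ l h1 h2).1
  have hv' := hdec v' fun l h1 h2 => (hℓ l h1 h2).2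
  have hab : b ⬝ᵥ v + a ⬝ᵥ v' = 0 := by
    have := main a b
    simpa [aξ, aη, bξ, bη] using this
  have hvj : v j = 0 := by simp [v, ht]
  have hvj' : v' j' = 0 := by simp [v', ht']
  have hav : a ⬝ᵥ v = -η j * (b ⬝ᵥ v) := by rw [ha, hvj]; ring
  refine ⟨?_, fun h0 => ?_, fun h3 => ?_⟩
  · conv_lhs => rw [hv, hav]
    funext i
    simp only [Pi.add_apply, Pi.smul_apply, smul_eq_mul, Pi.sub_apply]
    ring
  · have hv0 : v = 0 := by rw [hv, hav, h0]; simp
    have hav' : a ⬝ᵥ v' = 0 := by linear_combination hab - h0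
    have hv0' : v' = 0 := by
      have := congrFun hv' j'
      simp only [Pi.add_apply, Pi.smul_apply, smul_eq_mul, hη, mul_one, hvj', hav', zero_mul, zero_add] at this
      rw [hv', hav', ← this]; simp
    have hα : α = 0 := by
      have := main a a
      simpa [aξ, aη, hv0, hv0'] using this
    have hα' : α' = 0 := by
      have := main b b
      simpa [bξ, bη, hv0, hv0'] using this
    funext m
    rcases m with (⟨⟩ | l) | (⟨⟩ | l)
    · exact hα
    · exact congrFun (hind _ hv0) l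
    · exact hα'
    · exact congrFun (hind' _ hv0') l
  · have hh : (lin a * lin a * lin b * lin A ^ (d - 3)).IsHomogeneous d := by
      have := (((isHomogeneous_lin a).mul (isHomogeneous_lin a)).mul (isHomogeneous_lin b)).mul
        ((isHomogeneous_lin A).pow (d - 3))
      rwa [show 1 + 1 + 1 + 1 * (d - 3) = d by omega] at this
    have h0 := pairing_eq_zero ξ η t t' γ hγ hh
    rw [hpair] at h0
    simp only [dir_mul, dir_pow _ _ _ Aξ, dir_pow _ _ _ Aη, map_mul, map_pow, eval_lin, dir_lin, aξ, aη, bξ, bη, Aξ,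
      Aη, one_pow, mul_zero, zero_mul, mul_one, one_mul, add_zero, zero_add] at h0
    exact h0

end Groth.Agent.PencilLib.AnyChar
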