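import Groth.Agent.PencilLib.AnyChar.Field
import Groth.Agent.GeomIrred.Basic
import Groth.Agent.LinSecLib.Main
import Mathlib.Algebra.Polynomial.Div

/-!
# A function on a product vanishing at a pair of independent generic points is zero
-/

set_option autoImplicit false
set_option maxHeartbeats 1000000
set_option backward.isDefEq.respectTransparency false
set_option linter.style.haveILetI false
universe u
open TensorProduct KaehlerDifferential Module

noncomputable section

namespace Groth.Agent.PencilLib.AnyChar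

variable {k : Type u} [Field k] [IsAlgClosed k] {A A' : Type u} [CommRing A] [Algebra k A] [CommRing A'] [Algebra k A']
  [IsDomain A] [IsDomain A'] [Algebra.FiniteType k A] [Algebra.FiniteType k A'] {n n' : ℕ}

theorem lift_eq_zero_imp (z : Fin n → A) (b : Basis (Fin n) A Ω[A⁄k]) (hb : ∀ l, b l = D k A (z l))
    (z' : Fin n' → A') (b' : Basis (Fin n') A' Ω[A'⁄k]) (hb' : ∀ l, b' l = D k A' (z' l))
    {L : Type u} [Field L] [Algebra k L] (χ : A →ₐ[k] L) (χ' : A' →ₐ[k] L)
    (hind : AlgebraicIndependent k (Sum.elim (fun l => χ (z l)) fun l => χ' (z' l))) (M : A ⊗[k] A')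
    (hM : Algebra.TensorProduct.lift χ χ' (fun _ _ => Commute.all _ _) M = 0) : M = 0 := by
  classical
  haveI : IsDomain (A ⊗[k] A') := GeomIrred.isDomain_tensor
  by_contra hne
  let R := A ⊗[k] A'
  let E := FractionRing R
  let Ξ : R →ₐ[k] L := Algebra.TensorProduct.lift χ χ' fun _ _ => Commute.all _ _
  let j : R →ₐ[k] E := IsScalarTower.toAlgHom k R E
  have hj : Function.Injective j := IsFractionRing.injective R E
  let i : A →ₐ[k] R := Algebra.TensorProduct.includeLeft
  let i' : A' →ₐ[k] R := Algebra.TensorProduct.includeRight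
  let v : Fin n ⊕ Fin n' → R := Sum.elim (fun l => i (z l)) fun l => i' (z' l)
  have hΞv : Ξ ∘ v = Sum.elim (fun l => χ (z l)) fun l => χ' (z' l) := by
    funext l
    rcases l with l | l
    · show Algebra.TensorProduct.lift χ χ' _ (z l ⊗ₜ[k] (1 : A')) = _
      rw [Algebra.TensorProduct.lift_tmul, map_one, mul_one]; rfl
    · show Algebra.TensorProduct.lift χ χ' _ ((1 : A) ⊗ₜ[k] z' l) = _
      rw [Algebra.TensorProduct.lift_tmul, map_one, one_mul]; rfl
  have hv : AlgebraicIndependent k v := AlgebraicIndependent.of_comp Ξ (hΞv ▸ hind)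
  have hvE : AlgebraicIndependent k (j ∘ v) := hv.map' hj
  let s : Set E := Set.range (j ∘ v)
  have hall : ∀ t : R, j t ∈ Cl (k := k) s := by
    intro t
    induction t using TensorProduct.induction_on with
    | zero => rw [map_zero]; exact zero_mem _
    | add x y hx hy => rw [map_add]; exact add_mem hx hy
    | tmul a a' =>
      rw [show a ⊗ₜ[k] a' = i a * i' a' by simp [i, i', R], map_mul]
      exact mul_mem (mem_Cl_coords z b hb (j.comp i) (fun l => subset_Cl s (show j (i (z l)) ∈ s from ⟨Sum.inl l, rfl⟩)) a)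
        (mem_Cl_coords z' b' hb' (j.comp i') (fun l => subset_Cl s (show j (i' (z' l)) ∈ s from ⟨Sum.inr l, rfl⟩)) a')
  have halg := hall M
  rw [mem_algebraicClosure_iff, IntermediateField.isAlgebraic_adjoin_iff] at halg
  obtain ⟨p₀, hp₀, hp₀M⟩ := halg
  let e := hvE.aevalEquiv
  let p : Polynomial (MvPolynomial (Fin n ⊕ Fin n') k) := p₀.map e.symm.toRingHom
  let φ : MvPolynomial (Fin n ⊕ Fin n') k →+* R := (MvPolynomial.aeval v).toRingHom
  have hp : p ≠ 0 := (Polynomial.map_ne_zero_iff e.symm.injective).2 hp₀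
  have hpM : Polynomial.eval₂ φ M p = 0 := by
    refine hj ?_
    rw [map_zero]
    show (j : R →+* E) _ = 0
    rw [Polynomial.hom_eval₂, Polynomial.eval₂_map]
    rw [← hp₀M, Polynomial.aeval_def]
    congr 1
    refine RingHom.ext fun c => ?_
    show j (MvPolynomial.aeval v (e.symm c)) = _
    rw [← AlgHom.comp_apply, MvPolynomial.comp_aeval]
    conv_rhs => rw [← e.apply_symm_apply c]
    exact (hvE.algebraMap_aevalEquiv _).symm
  obtain ⟨q, hq, hXq⟩ := Polynomial.exists_eq_pow_rootMultiplicity_mul_and_not_dvd p hp 0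
  rw [Polynomial.C_0, sub_zero] at hq hXq
  rw [hq, Polynomial.eval₂_mul, Polynomial.eval₂_pow, Polynomial.eval₂_X] at hpM
  have hqM := (mul_eq_zero.1 hpM).resolve_left (pow_ne_zero _ hne)
  have hq0 := congrArg Ξ hqM
  rw [map_zero, show Ξ (Polynomial.eval₂ φ M q) = (Ξ : R →+* L) (Polynomial.eval₂ φ M q) from rfl,
    Polynomial.hom_eval₂, show (Ξ : R →+* L) M = 0 from hM, Polynomial.eval₂_at_zero] at hq0
  have hc : q.coeff 0 = 0 := by
    have h1 : MvPolynomial.aeval (Ξ ∘ v) (q.coeff 0) = 0 := by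
      rw [← hq0]
      show _ = Ξ (MvPolynomial.aeval v (q.coeff 0))
      rw [← AlgHom.comp_apply, MvPolynomial.comp_aeval]
      rfl
    rw [hΞv] at h1
    exact algebraicIndependent_iff.1 hind _ h1
  exact hXq (Polynomial.X_dvd_iff.2 hc)

/-- A tangent secant at independent generic points forces tangent secants at all pairs of points. -/
theorem exists_line_of_rel (z : Fin n → A) (b : Basis (Fin n) A Ω[A⁄k]) (hb : ∀ l, b l = D k A (z l))
    (z' : Fin n' → A') (b' : Basis (Fin n') A' Ω[A'⁄k]) (hb' : ∀ l, b' l = D k A' (z' l))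
    {L : Type u} [Field L] [Algebra k L] (χ : A →ₐ[k] L) (χ' : A' →ₐ[k] L)
    (hind : AlgebraicIndependent k (Sum.elim (fun l => χ (z l)) fun l => χ' (z' l)))
    {R : ℕ} (x : Fin R → A) (x' : Fin R → A') (j : Fin R) (s : L) (hs : s ≠ 0) (β : Fin n → L)
    (heq : ∀ i, ∑ l, β l * χ (OdpLib.pd b l (x i)) = s * (χ' (x' i) - χ' (x' j) * χ (x i)))
    (p : A →ₐ[k] k) (p' : A' →ₐ[k] k)
    (htan : ∀ c : Fin n → k, (∀ i, ∑ l, c l * p (OdpLib.pd b l (x i)) = 0) → c = 0) :
    ∃ c : Fin n → k, ∀ i, ∑ l, c l * p (OdpLib.pd b l (x i)) = p' (x' i) - p' (x' j) * p (x i) := by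
  classical
  by_contra! hp
  let Bk : Fin (n + 1) → Fin R → k :=
    Fin.cons (fun i => p' (x' i) - p' (x' j) * p (x i)) fun l i => p (OdpLib.pd b l (x i))
  have hBk : LinearIndependent k Bk := by
    rw [Fintype.linearIndependent_iff]
    intro c hc
    have hc' : ∀ i, c 0 * (p' (x' i) - p' (x' j) * p (x i)) + ∑ l, c (Fin.succ l) * p (OdpLib.pd b l (x i)) = 0 := fun i => by
      have := congrFun hc i
      rw [Finset.sum_apply, Fin.sum_univ_succ] at this
      simpa only [Bk, Fin.cons_zero, Fin.cons_succ, Pi.smul_apply, smul_eq_mul, Pi.zero_apply] using this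
    have hc0 : c 0 = 0 := by
      by_contra h0
      obtain ⟨i, hi⟩ := hp fun l => -(c 0)⁻¹ * c l.succ
      refine hi ?_
      rw [Finset.sum_congr rfl fun l _ => mul_assoc _ (c l.succ) _, ← Finset.mul_sum,
        eq_neg_of_add_eq_zero_right (hc' i)]
      field_simp
    have hrest := htan (fun l => c l.succ) fun i => by simpa [hc0] using hc' i
    intro i
    cases i using Fin.cases with
    | zero => exact hc0
    | succ l => exact congrFun hrest l
  obtain ⟨Λ, hΛ⟩ := LinSecLib.exists_leftInverse_coeff Bk hBk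
  let col : Fin (n + 1) → Fin R → A ⊗[k] A' :=
    Fin.cons (fun i => (1 : A) ⊗ₜ[k] x' i - x i ⊗ₜ[k] x' j) fun l i => OdpLib.pd b l (x i) ⊗ₜ[k] (1 : A')
  let Mt : Matrix (Fin (n + 1)) (Fin (n + 1)) (A ⊗[k] A') := fun c c' => ∑ i, Λ c i • col c' i
  have hne0 : Mt.det ≠ 0 := by
    intro h0
    have h1 := congrArg (Algebra.TensorProduct.lift p p' fun _ _ => Commute.all _ _) h0
    rw [AlgHom.map_det, map_zero] at h1
    refine one_ne_zero (α := k) (((Matrix.det_one (n := Fin (n + 1)) (R := k)).symm.trans ?_).trans h1)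
    congr 1
    ext c c'
    rw [AlgHom.mapMatrix_apply, Matrix.map_apply, Matrix.one_apply, ← hΛ c c', map_sum]
    refine Finset.sum_congr rfl fun i _ => ?_
    rw [map_smul, smul_eq_mul]
    refine congrArg (Λ c i * ·) ?_
    cases c' using Fin.cases with
    | zero =>
      simp only [col, Bk, Fin.cons_zero, map_sub, Algebra.TensorProduct.lift_tmul, map_one, one_mul]
      rw [mul_comm (p' (x' j))]
    | succ l => simp only [col, Bk, Fin.cons_succ, Algebra.TensorProduct.lift_tmul, map_one, mul_one]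
  refine hne0 (lift_eq_zero_imp z b hb z' b' hb' χ χ' hind _ ?_)
  rw [AlgHom.map_det]
  refine Matrix.exists_mulVec_eq_zero_iff.1 ⟨Fin.cons (-s) β, fun h => hs (by simpa using congrFun h 0), funext fun c => ?_⟩
  simp only [Matrix.mulVec, dotProduct, AlgHom.mapMatrix_apply, Matrix.map_apply, Mt, map_sum, Finset.sum_mul,
    Pi.zero_apply]
  rw [Finset.sum_comm]
  refine Finset.sum_eq_zero fun i _ => ?_
  rw [Fin.sum_univ_succ]
  simp only [Fin.cons_zero, Fin.cons_succ, map_smul, col, map_sub, Algebra.TensorProduct.lift_tmul, map_one, one_mul,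
    mul_one, smul_mul_assoc, ← Finset.smul_sum, ← smul_add]
  refine (congrArg (Λ c i • ·) ?_).trans (smul_zero _)
  rw [Finset.sum_congr rfl fun l _ => mul_comm (χ (OdpLib.pd b l (x i))) (β l), heq]
  ring

end Groth.Agent.PencilLib.AnyChar
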