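import Groth.Agent.PencilLib.AnyChar.Systems
import Groth.Agent.PencilLib.AnyChar.Linear
import Groth.Agent.PencilLib.AnyChar.Secant
import Groth.Agent.PencilLib.AnyChar.Tensor
import Groth.Agent.PencilLib.CharZero.Main

/-!
# Forms of degree at least two give a Lefschetz embedding
-/

set_option autoImplicit false
set_option maxHeartbeats 1600000
set_option backward.isDefEq.respectTransparency false
set_option backward.isDefEq.respectTransparency.types false
set_option linter.style.haveILetI false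
universe u
open CategoryTheory CategoryTheory.Limits AlgebraicGeometry TopologicalSpace IsLocalRing KaehlerDifferential Module Matrix TensorProduct
open Groth.Agent.AmpleEmb Groth.Agent.BertiniProjLib Groth.Agent.LefDualLib

noncomputable section

namespace Groth.Agent.PencilLib.AnyChar

variable {k : Type u} [Field k]

theorem upper_sum {n N : ℕ} (c : Fin N → k) (M : Fin N → Matrix (Fin n) (Fin n) k) :
    upper (∑ a, c a • M a) = mcomb c fun a => upper (M a) := by
  ext i l
  simp only [upper, mcomb, Matrix.sum_apply, Matrix.smul_apply, smul_eq_mul]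
  split_ifs
  · rfl
  · simp only [mul_add, Finset.sum_add_distrib]
  · simp

theorem map_ev_upper {A : Type u} [CommRing A] [Algebra k A] {n : ℕ} (p : A →ₐ[k] k)
    (g : Matrix (Fin n) (Fin n) (A ⊗[k] A)) :
    (upper (g.map (Algebra.TensorProduct.lmul' k))).map p = upper (g.map (OdpLib.ev p p)) := by
  have e : OdpLib.ev p p = p.comp (Algebra.TensorProduct.lmul' k) := Algebra.TensorProduct.ext' fun a c => by simp
  rw [e]
  exact (upper_map p.toRingHom _).trans (congrArg upper (Matrix.map_map))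

variable [IsAlgClosed k] {r d : ℕ} {X : Scheme.{u}} (ι : X ⟶ CohB1.ProjSpace r k) [IsClosedImmersion ι]
  (n : ℕ) [SmoothOfRelativeDimension (n + 1) (ι ≫ CohB1.ProjSpace.toSpec r k)] [IsIntegral X]
include n

omit [SmoothOfRelativeDimension (n + 1) (ι ≫ CohB1.ProjSpace.toSpec r k)] in
theorem isDomain_piece (j : Fin (r + 1)) (gA : Γ(X, U ι j)) (p : Localization.Away gA →ₐ[k] k) :
    IsDomain (Localization.Away gA) := by
  let p₀ : Γ(X, U ι j) →ₐ[k] k := p.comp (IsScalarTower.toAlgHom k Γ(X, U ι j) (Localization.Away gA))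
  obtain ⟨q, -, h, -⟩ := exists_point ι j p₀
  haveI : Nonempty (U ι j) := ⟨⟨_, h⟩⟩
  haveI : IsDomain Γ(X, U ι j) := inferInstance
  have hgA : gA ≠ 0 := by
    intro h0
    exact ((IsLocalization.Away.algebraMap_isUnit (S := Localization.Away gA) gA).map p).ne_zero
      ((congrArg (fun t => p (algebraMap Γ(X, U ι j) (Localization.Away gA) t)) h0).trans
        (by rw [map_zero, map_zero]))
  exact IsLocalization.isDomain_localization (powers_le_nonZeroDivisors_of_noZeroDivisors hgA)

theorem isLefschetzEmb_of_two_le (hd : 2 ≤ d) : LefPen.IsLefschetzEmb k (n + 1) ι d := by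
  classical
  haveI : Infinite k := IsAlgClosed.instInfinite
  have hd1 : 1 ≤ d := by omega
  have hiff := not_transversal_iff (d := d) ι (n + 1) (by omega) hd1
  let B := Module.finBasis k (LefPen.Form r k d)
  let N := Module.finrank k (LefPen.Form r k d)
  let Bp : Basis (Fin (N + N)) k (LefPen.Form r k d × LefPen.Form r k d) := (B.prod B).reindex finSumFinEquiv
  have hBp : ∀ F G, (fun i => Bp.equivFun (F, G) (finSumFinEquiv i)) = Sum.elim (B.equivFun F) (B.equivFun G) := by
    intro F G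
    funext i
    simp only [Bp, Basis.equivFun_apply, Basis.repr_reindex_apply]
    rw [show finSumFinEquiv.symm (finSumFinEquiv i) = i from Equiv.symm_apply_apply _ _]
    rcases i with a | a
    · exact Basis.prod_repr_inl B B (F, G) a
    · exact Basis.prod_repr_inr B B (F, G) a
  -- the pieces with coordinates
  choose s hs hscov using fun j => CharZero.exists_cover ι n hd1 j
  let P := Σ j : Fin (r + 1), { g // g ∈ s j }
  let T : P → Type u := fun P => Localization.Away P.2.1
  choose z b hb using fun P : P => hs P.1 P.2.1 P.2.2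
  haveI : ∀ j, Algebra.FiniteType k Γ(X, U ι j) := fun j => by
    obtain ⟨x, -, -, -, hx⟩ := exists_gens ι (d := d) hd1 j
    exact Algebra.FiniteType.of_surjective _ hx
  haveI hft : ∀ P : P, Algebra.FiniteType k (T P) := fun P => by
    haveI : Algebra.FiniteType Γ(X, U ι P.1) (T P) :=
      haveI := IsLocalization.Away.finitePresentation (S := T P) P.2.1; inferInstance
    exact Algebra.FiniteType.trans (S := Γ(X, U ι P.1)) inferInstance inferInstance
  let Φ : ∀ P : P, Fin N → T P := fun P a => algebraMap Γ(X, U ι P.1) (T P) (φ ι P.1 (B a))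
  have hΦ : ∀ (P : P) (H : LefPen.Form r k d),
      algebraMap Γ(X, U ι P.1) (T P) (φ ι P.1 H) = ∑ a, B.equivFun H a • Φ P a := fun P H => by
    conv_lhs => rw [← B.sum_equivFun H, map_sum, map_sum]
    exact Finset.sum_congr rfl fun a _ => by
      rw [map_smul, Algebra.smul_def, map_mul, ← IsScalarTower.algebraMap_apply, ← Algebra.smul_def]
  have hind : ∀ (P : P) (L : Type u) [Field L] [Algebra k L] (χ : T P →ₐ[k] L) (γ : Unit ⊕ Fin (n + 1) → L),
      (∀ a, ∑ m, γ m * χ (jet1 (b P) (Φ P) m a) = 0) → γ = 0 := by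
    intro P L _ _ χ γ hγ
    simp only [jet1, Fintype.sum_sum_type, Finset.univ_unique, Finset.sum_singleton, Sum.elim_inl, Sum.elim_inr] at hγ
    have h1 : ∑ a, algebraMap k L (B.equivFun (CharZero.powForm r d P.1) a) *
        (γ (Sum.inl default) * χ (Φ P a) + ∑ l, γ (Sum.inr l) * χ (OdpLib.pd (b P) l (Φ P a))) = 0 :=
      Finset.sum_eq_zero fun a _ => by rw [hγ a, mul_zero]
    simp only [mul_add, Finset.sum_add_distrib, Finset.mul_sum] at h1
    rw [Finset.sum_comm (f := fun a l => algebraMap k L _ * (γ (Sum.inr l) * _))] at h1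
    have e1 : ∀ (f : T P →ₗ[k] L), ∑ a, algebraMap k L (B.equivFun (CharZero.powForm r d P.1) a) * f (Φ P a) = f 1 :=
      fun f => by
        rw [show (1 : T P) = algebraMap Γ(X, U ι P.1) (T P) (φ ι P.1 (CharZero.powForm r d P.1)) by
          rw [CharZero.φ_powForm, map_one], hΦ, map_sum]
        exact Finset.sum_congr rfl fun a _ => by rw [map_smul, Algebra.smul_def]
    have h0 : γ (Sum.inl default) = 0 := by
      rw [Finset.sum_eq_zero (s := Finset.univ) (f := fun l : Fin (n + 1) => _) (fun l _ => ?_), add_zero] at h1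
      · have := e1 (γ (Sum.inl default) • χ.toLinearMap)
        simpa using this.symm.trans h1
      · show ∑ a, algebraMap k L (B.equivFun (CharZero.powForm r d P.1) a) * (γ (Sum.inr l) * χ (OdpLib.pd (b P) l (Φ P a))) = 0
        have h9 : ∑ a, algebraMap k L (B.equivFun (CharZero.powForm r d P.1) a) * χ (OdpLib.pd (b P) l (Φ P a)) = 0 :=
          (e1 (χ.toLinearMap.comp (OdpLib.pd (b P) l).toLinearMap)).trans (by
            show χ (OdpLib.pd (b P) l 1) = 0
            rw [Derivation.map_one_eq_zero, map_zero])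
        rw [← mul_zero (γ (Sum.inr l)), ← h9, Finset.mul_sum]
        exact Finset.sum_congr rfl fun a _ => mul_left_comm _ _ _
    have h2 := CharZero.hgen_away ι hd1 P.1 P.2.1 (z P) (b P) (hb P) B L χ (fun l => γ (Sum.inr l)) fun a => by
      have := hγ a
      rwa [h0, zero_mul, zero_add] at this
    funext m
    rcases m with ⟨⟩ | l
    · exact h0
    · exact congrFun h2 l
  -- second order data
  choose e he1 he using fun P : P => OdpLib.exists_e (z P) (b P) (hb P)
  choose gt hgt using fun (P : P) (a : Fin N) => OdpLib.exists_taylor (z P) (b P) (hb P) (he P) (Φ P a)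
  let Tay : ∀ P : P, LefPen.Form r k d → Matrix (Fin (n + 1)) (Fin (n + 1)) (T P ⊗[k] T P) :=
    fun P H => ∑ a, B.equivFun H a • gt P a
  have hTay : ∀ P H, OdpLib.IsTaylor (z P) (b P) (e P) (algebraMap _ (T P) (φ ι P.1 H)) (Tay P H) := fun P H => by
    rw [hΦ]
    exact OdpLib.isTaylor_sum (z P) (b P) _ (gt P) (hgt P) (B.equivFun H)
  let Gm : ∀ P : P, Fin N → Matrix (Fin (n + 1)) (Fin (n + 1)) (T P) :=
    fun P a => upper ((gt P a).map (Algebra.TensorProduct.lmul' k))
  have hTayp : ∀ P H (p : T P →ₐ[k] k),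
      upper ((Tay P H).map (OdpLib.ev p p)) = mcomb (B.equivFun H) fun a => (Gm P a).map p := fun P H p => by
    rw [OdpLib.map_ev_sum, upper_sum]
    exact congrArg (mcomb _) (funext fun a => (map_ev_upper p (gt P a)).symm)
  obtain ⟨o, ho⟩ := OdpLib.exists_test (nd_stdQ (k := k) (n := n + 1))
  have hτ : ∀ P : P, ∃ τ : Fin N → T P, (∀ m, ∑ a, τ a * jet1 (b P) (Φ P) m a = 0) ∧
      mcomb τ (Gm P) = (stdQ k (n + 1)).map (algebraMap k (T P)) := by
    intro P
    obtain ⟨τ, hτ⟩ := exists_preimage (k := k)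
      (Sum.elim (jet1 (b P) (Φ P)) fun (Q : {Q : Fin (n + 1) × Fin (n + 1) // Q.1 ≤ Q.2}) a => Gm P a Q.1.1 Q.1.2)
      (fun p γ hγ => by
        have h2 : ∀ Q, γ (Sum.inr Q) = 0 := by
          intro Q
          obtain ⟨H, hH1, hH2, hH3⟩ := exists_quad n ι P.1 P.2.1 (z P) (b P) (hb P) hd p (e P) (he1 P p) (Tay P)
            (hTay P) (Matrix.single Q.1.1 Q.1.2 1)
          have h0 : ∑ a, B.equivFun H a * (∑ m, γ m *
              p (Sum.elim (jet1 (b P) (Φ P)) (fun (Q : {Q : Fin (n + 1) × Fin (n + 1) // Q.1 ≤ Q.2}) a => Gm P a Q.1.1 Q.1.2) m a)) = 0 :=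
            Finset.sum_eq_zero fun a _ => by rw [hγ a, mul_zero]
          simp only [Finset.mul_sum] at h0
          rw [Finset.sum_comm] at h0
          simp only [mul_left_comm (B.equivFun H _) (γ _), ← Finset.mul_sum] at h0
          rw [hΦ, map_sum] at hH1
          simp only [map_smul, smul_eq_mul] at hH1
          have hH2' : ∀ l, ∑ a, B.equivFun H a * p (OdpLib.pd (b P) l (Φ P a)) = 0 := fun l => by
            have := hH2 l
            rw [hΦ, map_sum, map_sum] at this
            rw [← this]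
            exact Finset.sum_congr rfl fun a _ => by rw [Derivation.map_smul, map_smul, smul_eq_mul]
          rw [hTayp] at hH3
          rw [Fintype.sum_sum_type, Finset.sum_eq_zero (fun m _ => ?_), zero_add] at h0
          · have h3 : ∀ Q' : {Q : Fin (n + 1) × Fin (n + 1) // Q.1 ≤ Q.2},
                ∑ a, B.equivFun H a * p (Gm P a Q'.1.1 Q'.1.2) = if Q' = Q then 1 else 0 := by
              intro Q'
              have := congrFun (congrFun hH3 Q'.1.1) Q'.1.2
              simp only [mcomb, Matrix.sum_apply, Matrix.smul_apply, Matrix.map_apply, smul_eq_mul] at this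
              rw [this]
              rcases Q with ⟨⟨i, l⟩, hil⟩
              rcases Q' with ⟨⟨i', l'⟩, hil'⟩
              replace hil : i ≤ l := hil
              replace hil' : i' ≤ l' := hil'
              by_cases heq : i = i' ∧ l = l'
              · obtain ⟨rfl, rfl⟩ := heq
                rw [if_pos rfl]
                rcases eq_or_lt_of_le hil with rfl | hlt
                · simp [upper]
                · simp [upper, Matrix.single_apply, hlt.ne, hlt]
              · rw [if_neg (fun h => heq ⟨(congrArg (fun x => x.1.1) h).symm, (congrArg (fun x => x.1.2) h).symm⟩)]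
                simp only [upper]
                have z1 : Matrix.single i l (1 : k) i' l' = 0 := by rw [Matrix.single_apply, if_neg heq]
                split_ifs with h1 h2
                · subst h1; exact z1
                · rw [z1, zero_add, Matrix.single_apply, if_neg]
                  rintro ⟨rfl, rfl⟩
                  exact (not_lt.2 hil) h2
                · rfl
            simp only [Sum.elim_inr, h3, mul_ite, mul_one, mul_zero, Finset.sum_ite_eq', Finset.mem_univ, if_true] at h0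
            exact h0
          · rcases m with ⟨⟩ | l
            · simp only [jet1, Sum.elim_inl, Sum.elim_inr, hH1, mul_zero]
            · simp only [jet1, Sum.elim_inl, Sum.elim_inr, hH2' l, mul_zero]
        have h1 := hind P k p (fun m => γ (Sum.inl m)) fun a => by
          have := hγ a
          rw [Fintype.sum_sum_type, Finset.sum_eq_zero (s := Finset.univ) (f := fun Q => γ (Sum.inr Q) * _)
            (fun Q _ => by rw [h2, zero_mul]), add_zero] at this
          exact this
        funext m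
        rcases m with m | Q
        · exact congrFun h1 m
        · exact h2 Q)
      (Sum.elim 0 fun Q => algebraMap k (T P) (stdQ k (n + 1) Q.1.1 Q.1.2))
    refine ⟨τ, fun m => hτ (Sum.inl m), ?_⟩
    ext i l
    simp only [mcomb, Matrix.sum_apply, Matrix.smul_apply, smul_eq_mul, Matrix.map_apply]
    rcases le_or_gt i l with h | h
    · exact hτ (Sum.inr ⟨(i, l), h⟩)
    · have e0 : stdQ k (n + 1) i l = 0 := by rw [← upper_stdQ]; exact upper_apply_of_gt _ h
      rw [e0, map_zero]
      exact Finset.sum_eq_zero fun a _ => by rw [show Gm P a i l = 0 from upper_apply_of_gt _ h, mul_zero]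
  choose τ hτ1 hτ2 using hτ
  choose g₁ hg₁0 hg₁ using fun P : P => exists_poly_nd (z P) (b P) (hb P) (Φ P) (Gm P)
    (fun L _ _ χ γ h => hind P L χ γ h) (stdQ k (n + 1)) o ho (τ P) (hτ1 P) (hτ2 P)
  -- pairs of pieces
  let Line : P → P → Prop := fun P P' => d = 2 ∧ ∀ (p : T P →ₐ[k] k) (p' : T P' →ₐ[k] k), ∃ β : Fin (n + 1) → k,
    ∀ i, ∑ l, β l * p (OdpLib.pd (b P) l (co ι P.1 P.2.1 i)) =
      p' (co ι P'.1 P'.2.1 i) - p' (co ι P'.1 P'.2.1 P.1) * p (co ι P.1 P.2.1 i)
  have hpair : ∀ I : P × P × Fin N × Fin N, ∃ g : MvPolynomial (Fin N ⊕ Fin N) k, g ≠ 0 ∧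
      (¬ Line I.1 I.2.1 → ∀ (F G : Fin N → k), MvPolynomial.eval (Sum.elim F G) g ≠ 0 →
        ∀ (p : T I.1 →ₐ[k] k) (p' : T I.2.1 →ₐ[k] k) (c : k), CharZero.IsSing (b I.1) p (CharZero.comb (Φ I.1) F G c) →
          CharZero.IsSing (b I.2.1) p' (CharZero.comb (Φ I.2.1) F G c) →
          p (Φ I.1 I.2.2.1) * p' (Φ I.2.1 I.2.2.2) - p (Φ I.1 I.2.2.2) * p' (Φ I.2.1 I.2.2.1) = 0) := by
    rintro ⟨P, P', i₀, i₁⟩
    by_cases hline : Line P P'
    · exact ⟨1, one_ne_zero, fun h => absurd hline h⟩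
    obtain ⟨g, hg0, hg⟩ := exists_poly_pair (z P) (b P) (hb P) (z P') (b P') (hb P') (Φ P) (Φ P') i₀ i₁ (by
      intro L _ _ χ χ' hminor
      let ξ : Fin (r + 1) → L := fun i => χ (co ι P.1 P.2.1 i)
      let η : Fin (r + 1) → L := fun i => χ' (co ι P'.1 P'.2.1 i)
      let t : Fin (n + 1) → Fin (r + 1) → L := fun l i => χ (OdpLib.pd (b P) l (co ι P.1 P.2.1 i))
      let t' : Fin (n + 1) → Fin (r + 1) → L := fun l i => χ' (OdpLib.pd (b P') l (co ι P'.1 P'.2.1 i))
      have hfev : ∀ H : LefPen.Form r k d, MvPolynomial.aeval ξ H.1 = χ (algebraMap _ (T P) (φ ι P.1 H)) ∧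
          MvPolynomial.aeval η H.1 = χ' (algebraMap _ (T P') (φ ι P'.1 H)) := fun H => by
        constructor <;> rw [φ_eq_aeval, ← AlgHom.comp_apply, MvPolynomial.comp_aeval]
      have hne : ∃ i, η i ≠ η P.1 * ξ i := by
        by_contra! hall
        refine hminor ?_
        have e0 : η = η P.1 • ξ := funext hall
        have e1 : ∀ a, χ' (Φ P' a) = η P.1 ^ d * χ (Φ P a) := fun a => by
          rw [show χ' (Φ P' a) = MvPolynomial.aeval η (B a).1 from (hfev (B a)).2.symm,
            show χ (Φ P a) = MvPolynomial.aeval ξ (B a).1 from (hfev (B a)).1.symm]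
          conv_lhs => rw [e0]
          exact LinSecLib.aeval_smul_of_isHomogeneous _ _ ((MvPolynomial.mem_homogeneousSubmodule _ _).1 (B a).2)
        rw [e1, e1]
        ring
      obtain ⟨bv, hrel⟩ := rel (k := k) (d := d) hd ξ η P.1 P'.1 (by simp [ξ, co_self]) (by simp [η, co_self]) hne t t'
        (fun l => by simp [t, co_self]) (fun l => by simp [t', co_self])
        (tangent_indep ι hd1 P.1 P.2.1 (z P) (b P) (hb P) B L χ)
        (tangent_indep ι hd1 P'.1 P'.2.1 (z P') (b P') (hb P') B L χ')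
      let sγ : ((Unit ⊕ Fin (n + 1)) ⊕ (Unit ⊕ Fin (n + 1)) → L) → L := fun γ =>
        bv ⬝ᵥ ∑ l, γ (Sum.inl (Sum.inr l)) • t l
      let IsRel : ((Unit ⊕ Fin (n + 1)) ⊕ (Unit ⊕ Fin (n + 1)) → L) → Prop := fun γ => ∀ a, ∑ m, γ m *
        Sum.elim (fun m => χ (jet1 (b P) (Φ P) m a)) (fun m => χ' (jet1 (b P') (Φ P') m a)) m = 0
      have hrel' : ∀ γ, IsRel γ →
          (∑ l, γ (Sum.inl (Sum.inr l)) • t l = sγ γ • (η - η P.1 • ξ)) ∧ (sγ γ = 0 → γ = 0) ∧ (3 ≤ d → sγ γ = 0) := by
        intro γ hγ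
        refine hrel γ fun H hH => ?_
        let H' : LefPen.Form r k d := ⟨H, (MvPolynomial.mem_homogeneousSubmodule _ _).2 hH⟩
        have e1 : ∀ x : Fin (r + 1) → L, MvPolynomial.eval x (MvPolynomial.map (algebraMap k L) H) = MvPolynomial.aeval x H :=
          fun x => by rw [MvPolynomial.eval_map, MvPolynomial.aeval_def]
        have e2 : ∀ {S : Type u} [CommRing S] [Algebra k S] (δ : Derivation k S S) (f : S →ₐ[k] L) (y : Fin (r + 1) → S),
            dir (MvPolynomial.map (algebraMap k L) H) (fun i => f (y i)) (fun i => f (δ (y i))) =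
              f (δ (MvPolynomial.aeval y H)) := by
          intro S _ _ δ f y
          rw [LinSecLib.derivation_aeval, map_sum]
          refine Finset.sum_congr rfl fun i _ => ?_
          rw [MvPolynomial.pderiv_map, MvPolynomial.eval_map, ← MvPolynomial.aeval_def, smul_eq_mul, map_mul,
            ← AlgHom.comp_apply, MvPolynomial.comp_aeval]
        have hH0 : ∑ a, algebraMap k L (B.equivFun H' a) * (∑ m, γ m *
            Sum.elim (fun m => χ (jet1 (b P) (Φ P) m a)) (fun m => χ' (jet1 (b P') (Φ P') m a)) m) = 0 :=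
          Finset.sum_eq_zero fun a _ => by rw [hγ a, mul_zero]
        rw [← hH0]
        simp only [pairing, e1]
        have p1 : MvPolynomial.aeval ξ H = ∑ a, algebraMap k L (B.equivFun H' a) * χ (Φ P a) := by
          rw [(hfev H').1, hΦ, map_sum]
          exact Finset.sum_congr rfl fun a _ => by rw [map_smul, Algebra.smul_def]
        have p2 : MvPolynomial.aeval η H = ∑ a, algebraMap k L (B.equivFun H' a) * χ' (Φ P' a) := by
          rw [(hfev H').2, hΦ, map_sum]
          exact Finset.sum_congr rfl fun a _ => by rw [map_smul, Algebra.smul_def]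
        have p3 : ∀ l, dir (MvPolynomial.map (algebraMap k L) H) ξ (t l) =
            ∑ a, algebraMap k L (B.equivFun H' a) * χ (OdpLib.pd (b P) l (Φ P a)) := fun l => by
          rw [e2 (OdpLib.pd (b P) l) χ (co ι P.1 P.2.1), show MvPolynomial.aeval (co ι P.1 P.2.1) H =
            algebraMap _ (T P) (φ ι P.1 H') from (φ_eq_aeval ι P.1 P.2.1 H').symm, hΦ, map_sum, map_sum]
          exact Finset.sum_congr rfl fun a _ => by rw [Derivation.map_smul, map_smul, Algebra.smul_def]
        have p4 : ∀ l, dir (MvPolynomial.map (algebraMap k L) H) η (t' l) =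
            ∑ a, algebraMap k L (B.equivFun H' a) * χ' (OdpLib.pd (b P') l (Φ P' a)) := fun l => by
          rw [e2 (OdpLib.pd (b P') l) χ' (co ι P'.1 P'.2.1), show MvPolynomial.aeval (co ι P'.1 P'.2.1) H =
            algebraMap _ (T P') (φ ι P'.1 H') from (φ_eq_aeval ι P'.1 P'.2.1 H').symm, hΦ, map_sum, map_sum]
          exact Finset.sum_congr rfl fun a _ => by rw [Derivation.map_smul, map_smul, Algebra.smul_def]
        simp only [p1, p2, p3, p4, jet1, Fintype.sum_sum_type, Finset.univ_unique, Finset.sum_singleton, Sum.elim_inl,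
          Sum.elim_inr, Finset.mul_sum, mul_add, Finset.sum_add_distrib]
        rw [Finset.sum_comm (γ := Fin N) (α := Fin (n + 1)), Finset.sum_comm (γ := Fin N) (α := Fin (n + 1))]
        refine congrArg₂ (· + ·) (congrArg₂ (· + ·) ?_ ?_) (congrArg₂ (· + ·) ?_ ?_)
        · exact Finset.sum_congr rfl fun a _ => mul_left_comm _ _ _
        · exact Finset.sum_congr rfl fun l _ => Finset.sum_congr rfl fun a _ => mul_left_comm _ _ _
        · exact Finset.sum_congr rfl fun a _ => mul_left_comm _ _ _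
        · exact Finset.sum_congr rfl fun l _ => Finset.sum_congr rfl fun a _ => mul_left_comm _ _ _
      by_cases hex : ∃ γ, IsRel γ ∧ γ ≠ 0
      swap
      · refine ⟨Sum.inl (Sum.inl ()), fun γ hγ _ => ?_, Or.inl fun γ hγ => ?_⟩ <;>
          exact by_contra fun h => hex ⟨γ, hγ, h⟩
      obtain ⟨γ₁, hγ₁, hγ₁0⟩ := hex
      have hs₁ : sγ γ₁ ≠ 0 := fun h => hγ₁0 ((hrel' γ₁ hγ₁).2.1 h)
      obtain ⟨m₀, hm₀⟩ := Function.ne_iff.1 hγ₁0
      refine ⟨m₀, fun γ hγ hγm => ?_, Or.inr ?_⟩
      · let γ₂ := sγ γ₁ • γ - sγ γ • γ₁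
        have hr : IsRel γ₂ := fun a => by
          have h1 := hγ a
          have h2 := hγ₁ a
          simp only [γ₂, Pi.sub_apply, Pi.smul_apply, smul_eq_mul, sub_mul, Finset.sum_sub_distrib, mul_assoc,
            ← Finset.mul_sum, h1, h2, mul_zero, sub_zero]
        have hs2 : sγ γ₂ = 0 := by
          simp only [sγ, γ₂, Pi.sub_apply, Pi.smul_apply, smul_eq_mul, sub_smul, mul_smul, Finset.sum_sub_distrib,
            ← Finset.smul_sum, dotProduct_sub, dotProduct_smul]
          ring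
        have hz2 := congrFun ((hrel' γ₂ hr).2.1 hs2) m₀
        simp only [γ₂, Pi.sub_apply, Pi.smul_apply, smul_eq_mul, hγm, mul_zero, zero_sub, neg_eq_zero, Pi.zero_apply] at hz2
        exact (hrel' γ hγ).2.1 ((mul_eq_zero.1 hz2).resolve_right hm₀)
      · intro hindep
        have hd2 : d = 2 := by
          by_contra hne2
          exact hs₁ ((hrel' γ₁ hγ₁).2.2 (by omega))
        refine hline ⟨hd2, fun p p' => ?_⟩
        haveI := isDomain_piece ι n P.1 P.2.1 p
        haveI := isDomain_piece ι n P'.1 P'.2.1 p'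
        have hv := (hrel' γ₁ hγ₁).1
        refine exists_line_of_rel (z P) (b P) (hb P) (z P') (b P') (hb P') χ χ' hindep (co ι P.1 P.2.1)
          (co ι P'.1 P'.2.1) P.1 (sγ γ₁) hs₁ (fun l => γ₁ (Sum.inl (Sum.inr l))) (fun i => ?_) p p' fun c hc => ?_
        · have hvi := congrFun hv i
          simp only [Finset.sum_apply, Pi.smul_apply, smul_eq_mul, Pi.sub_apply] at hvi
          exact hvi
        · refine tangent_indep ι hd1 P.1 P.2.1 (z P) (b P) (hb P) B k p c (funext fun i => ?_)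
          simp only [Finset.sum_apply, Pi.smul_apply, smul_eq_mul, Pi.zero_apply]
          exact hc i)
    exact ⟨g, hg0, fun _ => hg⟩
  choose g₂ hg₂0 hg₂ using hpair
  let Q : MvPolynomial (Fin N ⊕ Fin N) k := (∏ P, g₁ P) * ∏ I, g₂ I
  have hQ : Q ≠ 0 := mul_ne_zero (Finset.prod_ne_zero_iff.2 fun P _ => hg₁0 P)
    (Finset.prod_ne_zero_iff.2 fun I _ => hg₂0 I)
  -- members
  have hmemb : ∀ F G, MvPolynomial.eval (Sum.elim (B.equivFun F) (B.equivFun G)) Q ≠ 0 → ∀ c : k,
      Bad ι (F + c • G) → LefPen.OneOrdQuad k (n + 1) ι (F + c • G) := by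
    intro F G hFG c hbad
    simp only [Q, map_mul, map_prod, mul_ne_zero_iff, Finset.prod_ne_zero_iff, Finset.mem_univ, true_implies] at hFG
    obtain ⟨hq1, hq2⟩ := hFG
    have hco : B.equivFun (F + c • G) = fun a => B.equivFun F a + c * B.equivFun G a := by
      funext a; simp [map_add, map_smul]
    have hcomb : ∀ P : P, algebraMap Γ(X, U ι P.1) (T P) (φ ι P.1 (F + c • G)) =
        CharZero.comb (Φ P) (B.equivFun F) (B.equivFun G) c := fun P => by
      rw [hΦ, hco]; rfl
    have hloc : ∀ (q : Spec (CommRingCat.of k) ⟶ X) (hq : q ≫ g0 ι = 𝟙 _) (j : Fin (r + 1)) (h : q pt ∈ U ι j),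
        Sing (pA ι q hq j h) (φ ι j (F + c • G)) →
        ∃ (g : { g // g ∈ s j }) (p : T ⟨j, g⟩ →ₐ[k] k), (∀ a, p (algebraMap _ _ a) = pA ι q hq j h a) ∧
          CharZero.IsSing (b ⟨j, g⟩) p (CharZero.comb (Φ ⟨j, g⟩) (B.equivFun F) (B.equivFun G) c) := by
      intro q hq j h hsing
      haveI := smooth_chartRing ι (n + 1) j
      obtain ⟨g, hg, hgne⟩ := hscov j (pA ι q hq j h)
      obtain ⟨p, hp, hps, -⟩ := OdpLib.exists_extend (n := n + 1) (T := T ⟨j, ⟨g, hg⟩⟩) g (pA ι q hq j h) hgne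
      refine ⟨⟨g, hg⟩, p, hp, ?_⟩
      rw [← hcomb]
      exact (OdpLib.sing_iff_pd (b ⟨j, ⟨g, hg⟩⟩) p _).1 (hps _ hsing)
    have hnd : ∀ (P : P) (p : T P →ₐ[k] k), CharZero.IsSing (b P) p (CharZero.comb (Φ P) (B.equivFun F) (B.equivFun G) c) →
        OdpLib.ND ((Tay P (F + c • G)).map (OdpLib.ev p p)) := by
      intro P p hps
      have ht := hg₁ P _ _ (hq1 P) p c hps
      refine OdpLib.nd_of_polyQ_eq (polyQ_upper _) ?_
      rw [hTayp, hco]
      exact fun v h1 h2 => OdpLib.eq_zero_of_test ht h1 h2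
    refine CharZero.oneOrdQuad_of_unique ι n hd1 _ hbad fun q q' hq hq' j j' h h' hsq hsq' => ⟨?_, ?_⟩
    · by_contra hne
      obtain ⟨j'', h'', hjj⟩ : ∃ j'', ∃ _ : q' pt ∈ U ι j'', q' pt ∈ U ι j → j'' = j := by
        by_cases hin : q' pt ∈ U ι j
        · exact ⟨j, hin, fun _ => rfl⟩
        · exact ⟨j', h', fun h => absurd h hin⟩
      haveI := smooth_chartRing ι (n + 1) j'
      have hsq'' := sing_chart ι (F + c • G) q' hq' j' j'' h' h'' hsq'
      obtain ⟨g, p, hp, hps⟩ := hloc q hq j h hsq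
      obtain ⟨g', p', hp', hps'⟩ := hloc q' hq' j'' h'' hsq''
      by_cases hline : Line ⟨j, g⟩ ⟨j'', g'⟩
      · obtain ⟨hd2, hline⟩ := hline
        subst hd2
        refine not_nd_linear ι n j j'' g.1 g'.1 (z ⟨j, g⟩) (b ⟨j, g⟩) (hb ⟨j, g⟩) (z ⟨j'', g'⟩) (b ⟨j'', g'⟩)
          (hb ⟨j'', g'⟩) (F + c • G) p p' ?_ ?_ ?_ (hline p) (e ⟨j, g⟩) (he1 ⟨j, g⟩ p) _ (hTay ⟨j, g⟩ _)
          (hnd ⟨j, g⟩ p hps)
        · rw [hcomb ⟨j, g⟩]; exact hps
        · rw [hcomb ⟨j'', g'⟩]; exact hps'
        · obtain ⟨a, a', ha⟩ := CharZero.exists_minor ι (by omega) B q q' hq hq' j j'' h h'' hjj hne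
          by_contra! hall
          refine ha ?_
          have e0 : (fun i => p' (co ι j'' g'.1 i)) = p' (co ι j'' g'.1 j) • fun i => p (co ι j g.1 i) := funext hall
          have e1 : ∀ a, p' (Φ ⟨j'', g'⟩ a) = p' (co ι j'' g'.1 j) ^ 2 * p (Φ ⟨j, g⟩ a) := fun a => by
            show p' (algebraMap _ _ (φ ι j'' (B a))) = _ * p (algebraMap _ _ (φ ι j (B a)))
            rw [φ_eq_aeval, φ_eq_aeval, ← AlgHom.comp_apply, MvPolynomial.comp_aeval]
            conv_lhs => rw [e0]
            rw [LinSecLib.aeval_smul_of_isHomogeneous _ _ ((MvPolynomial.mem_homogeneousSubmodule _ _).1 (B a).2),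
              ← AlgHom.comp_apply p, MvPolynomial.comp_aeval]
          rw [← hp, ← hp, ← hp', ← hp']
          show p (Φ ⟨j, g⟩ a) * p' (Φ ⟨j'', g'⟩ a') - p (Φ ⟨j, g⟩ a') * p' (Φ ⟨j'', g'⟩ a) = 0
          rw [e1, e1]
          ring
      · obtain ⟨a, a', ha⟩ := CharZero.exists_minor ι hd1 B q q' hq hq' j j'' h h'' hjj hne
        refine ha ?_
        have := hg₂ (⟨j, g⟩, ⟨j'', g'⟩, a, a') hline _ _ (hq2 _) p p' c hps hps'
        rw [show p (Φ ⟨j, g⟩ a) = _ from hp _, show p (Φ ⟨j, g⟩ a') = _ from hp _,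
          show p' (Φ ⟨j'', g'⟩ a') = _ from hp' _, show p' (Φ ⟨j'', g'⟩ a) = _ from hp' _] at this
        exact this
    · obtain ⟨g, p, hp, hps⟩ := hloc q hq j h hsq
      exact OdpLib.good_of_nd ι n j g.1 (z ⟨j, g⟩) (b ⟨j, g⟩) (hb ⟨j, g⟩) hd1 _ q hq h hsq p hp (he1 ⟨j, g⟩ p)
        (hTay ⟨j, g⟩ _) (hnd ⟨j, g⟩ p hps)
  -- a base pencil
  obtain ⟨F₀, G₀, hli⟩ := CharZero.exists_indep ι n (d := d) hd1
  obtain ⟨h₁, hh₁, hh₁v, hh₁S⟩ := exists_indep_poly F₀ G₀ hli
  obtain ⟨f₀, hf₀, ⟨H₀, hH₀⟩, hf₀S⟩ := S4026.result k r (n + 1) (by omega) ι d hd1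
  have hH₀t : LefPen.Transversal k (n + 1) 1 (LefPen.secToSpec ι ({H₀} : Set (LefPen.Form r k d))) := hf₀S H₀ hH₀
  obtain ⟨Pb, hPb, hPbS⟩ := exists_base_poly ι (n + 1) (by omega) hd1 H₀ hH₀t B
  obtain ⟨a₂, ha₂⟩ := CharZero.exists_eval_ne_zero hPb
  have hnb2 : ¬ Bad2 ι H₀ (B.equivFun.symm a₂) := hPbS _ (by rwa [LinearEquiv.apply_symm_apply])
  obtain ⟨h₂, hh₂, hh₂v, hh₂S⟩ := exists_avoid₂ ι (n + 1) hd1 H₀ _ hnb2
  obtain ⟨P₁, hP₁⟩ := exists_poly_of_isPolyFun Bp hh₁
  obtain ⟨P₂, hP₂⟩ := exists_poly_of_isPolyFun Bp hh₂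
  obtain ⟨P₀, hP₀⟩ := exists_poly_of_isPolyFun B hf₀
  let PF : MvPolynomial (Fin (N + N)) k := MvPolynomial.rename (fun a => finSumFinEquiv (Sum.inl a)) P₀
  let PG : MvPolynomial (Fin (N + N)) k := MvPolynomial.rename (fun a => finSumFinEquiv (Sum.inr a)) P₀
  have hcoordF : ∀ F G, (fun a => Bp.equivFun (F, G) (finSumFinEquiv (Sum.inl a))) = B.equivFun F :=
    fun F G => funext fun a => congrFun (hBp F G) (Sum.inl a)
  have hcoordG : ∀ F G, (fun a => Bp.equivFun (F, G) (finSumFinEquiv (Sum.inr a))) = B.equivFun G :=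
    fun F G => funext fun a => congrFun (hBp F G) (Sum.inr a)
  have hP0ne : P₀ ≠ 0 := fun h => hH₀ ((hP₀ H₀).trans (by rw [h, map_zero]))
  have hne : P₁ * P₂ * PF * PG * MvPolynomial.rename finSumFinEquiv Q ≠ 0 := by
    refine mul_ne_zero (mul_ne_zero (mul_ne_zero (mul_ne_zero ?_ ?_) ?_) ?_) ?_
    · exact fun h => hh₁v ((hP₁ _).trans (by rw [h, map_zero]))
    · exact fun h => hh₂v ((hP₂ _).trans (by rw [h, map_zero]))
    · exact fun h => hP0ne (MvPolynomial.rename_injective _ (finSumFinEquiv.injective.comp Sum.inl_injective) (h.trans (map_zero _).symm))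
    · exact fun h => hP0ne (MvPolynomial.rename_injective _ (finSumFinEquiv.injective.comp Sum.inr_injective) (h.trans (map_zero _).symm))
    · exact fun h => hQ (MvPolynomial.rename_injective _ finSumFinEquiv.injective (h.trans (map_zero _).symm))
  obtain ⟨w, hw⟩ := CharZero.exists_eval_ne_zero hne
  refine ⟨fun FG => MvPolynomial.eval (Bp.equivFun FG) (P₁ * P₂ * PF * PG * MvPolynomial.rename finSumFinEquiv Q),
    S4026.isPolyFun_eval Bp.equivFun.toLinearMap _, ⟨Bp.equivFun.symm w, by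
      show MvPolynomial.eval (Bp.equivFun (Bp.equivFun.symm w)) _ ≠ 0
      rwa [LinearEquiv.apply_symm_apply]⟩, ?_⟩
  rintro ⟨F, G⟩ hFG
  simp only [map_mul, mul_ne_zero_iff, PF, PG, MvPolynomial.eval_rename, Function.comp_def, hcoordF, hcoordG, hBp,
    ← hP₁, ← hP₂] at hFG
  obtain ⟨⟨⟨⟨e1, e2⟩, e3⟩, e4⟩, e5⟩ := hFG
  replace e3 : f₀ F ≠ 0 := fun h0 => e3 ((hP₀ F).symm.trans h0)
  replace e4 : f₀ G ≠ 0 := fun h0 => e4 ((hP₀ G).symm.trans h0)
  show LefPen.IsLefschetzPencil k (n + 1) ι d F G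
  refine ⟨hh₁S F G e1, transversal₂_of_not_bad2 ι (n + 1) (by omega) hd1 F G (hh₂S F G e2), ?_, fun H hH hnt => ?_⟩
  · refine (finite_line_zero hf₀ F G 0 (by rwa [zero_smul, add_zero])).subset fun c hc => by_contra fun hne' => ?_
    exact hc (hf₀S _ hne')
  · rcases hH with hH | ⟨c, rfl⟩
    · exact absurd (hf₀S G e4) (by rw [Set.mem_singleton_iff.1 hH] at hnt; exact hnt)
    · exact hmemb F G e5 c ((hiff _).1 hnt)

end Groth.Agent.PencilLib.AnyChar
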