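import Groth.Agent.PencilLib.AnyChar.Jet
import Groth.Agent.PencilLib.CharZero.Systems

/-!
# The polynomial conditions on a pair of forms, in every characteristic
-/

set_option autoImplicit false
set_option maxHeartbeats 1000000
set_option backward.isDefEq.respectTransparency false
set_option linter.style.haveILetI false
universe u
open TensorProduct KaehlerDifferential Module Matrix

noncomputable section

namespace Groth.Agent.PencilLib.AnyChar

variable {k : Type u} [Field k] {A : Type u} [CommRing A] [Algebra k A] [Algebra.FiniteType k A] {n N : ℕ}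
  (z : Fin n → A) (b : Basis (Fin n) A Ω[A⁄k])

/-- Combination of matrices. -/
def mcomb {R : Type u} [CommRing R] (u : Fin N → R) (M : Fin N → Matrix (Fin n) (Fin n) R) : Matrix (Fin n) (Fin n) R :=
  ∑ a, u a • M a

theorem mcomb_map {R S : Type u} [CommRing R] [CommRing S] (f : R →+* S) (u : Fin N → R)
    (M : Fin N → Matrix (Fin n) (Fin n) R) : (mcomb u M).map f = mcomb (fun a => f (u a)) fun a => (M a).map f := by
  ext i l
  simp [mcomb, Matrix.sum_apply]

theorem test_map {R S : Type u} [CommRing R] [CommRing S] (ι : k →+* R) (f : R →+* S)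
    (o : Option ((Fin n → k) × (Fin n → k))) (M : Matrix (Fin n) (Fin n) R) :
    f (OdpLib.test ι o M (M + Mᵀ)) = OdpLib.test (f.comp ι) o (M.map f) (M.map f + (M.map f)ᵀ) := by
  rw [OdpLib.map_test]
  congr 1
  ext i l
  simp

/-- The degeneracy test as a polynomial in the free parameters. -/
def degenPoly {K : Type u} [Field K] [Algebra k K] {q : ℕ} (E : Fin q → Fin N → K)
    (Gk : Fin N → Matrix (Fin n) (Fin n) K) (o : Option ((Fin n → k) × (Fin n → k))) : MvPolynomial (Fin q) K :=
  OdpLib.test (MvPolynomial.C.comp (algebraMap k K)) o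
    (mcomb (fun a => ∑ i, MvPolynomial.X i * MvPolynomial.C (E i a)) fun a => (Gk a).map MvPolynomial.C)
    (mcomb (fun a => ∑ i, MvPolynomial.X i * MvPolynomial.C (E i a)) (fun a => (Gk a).map MvPolynomial.C) +
      (mcomb (fun a => ∑ i, MvPolynomial.X i * MvPolynomial.C (E i a)) fun a => (Gk a).map MvPolynomial.C)ᵀ)

theorem aeval_degenPoly {K : Type u} [Field K] [Algebra k K] {q : ℕ} (E : Fin q → Fin N → K)
    (Gk : Fin N → Matrix (Fin n) (Fin n) K) (o : Option ((Fin n → k) × (Fin n → k)))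
    {L' : Type u} [CommRing L'] [Algebra K L'] (t' : Fin q → L') :
    MvPolynomial.aeval t' (degenPoly E Gk o) =
      OdpLib.test ((algebraMap K L').comp (algebraMap k K)) o
        (mcomb (fun a => ∑ i, t' i * algebraMap K L' (E i a)) fun a => (Gk a).map (algebraMap K L'))
        (mcomb (fun a => ∑ i, t' i * algebraMap K L' (E i a)) (fun a => (Gk a).map (algebraMap K L')) +
          (mcomb (fun a => ∑ i, t' i * algebraMap K L' (E i a)) fun a => (Gk a).map (algebraMap K L'))ᵀ) := by
  refine (test_map (R := MvPolynomial (Fin q) K) (MvPolynomial.C.comp (algebraMap k K)) (MvPolynomial.aeval t').toRingHom o _).trans ?_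
  have e : (MvPolynomial.aeval t').toRingHom.comp (MvPolynomial.C.comp (algebraMap k K)) =
      (algebraMap K L').comp (algebraMap k K) := RingHom.ext fun c => MvPolynomial.aeval_C _ _
  have eM : (mcomb (fun a => ∑ i, MvPolynomial.X i * MvPolynomial.C (E i a)) fun a => (Gk a).map MvPolynomial.C).map
      (MvPolynomial.aeval t').toRingHom =
        mcomb (fun a => ∑ i, t' i * algebraMap K L' (E i a)) fun a => (Gk a).map (algebraMap K L') := by
    rw [mcomb_map]
    congr 1
    · funext a; simp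
    · funext a
      ext i l
      simp
  rw [e, eM]

/-- A general pair has only non-degenerate singular points in the chart. -/
theorem exists_poly_nd (hb : ∀ l, b l = D k A (z l)) (Φ : Fin N → A) (Gm : Fin N → Matrix (Fin n) (Fin n) A)
    (hind : ∀ (L : Type u) [Field L] [Algebra k L] (χ : A →ₐ[k] L) (γ : Unit ⊕ Fin n → L),
      (∀ a, ∑ m, γ m * χ (jet1 b Φ m a) = 0) → γ = 0)
    (Gs : Matrix (Fin n) (Fin n) k) (o : Option ((Fin n → k) × (Fin n → k)))
    (ho : OdpLib.test (RingHom.id k) o Gs (Gs + Gsᵀ) ≠ 0) (τ : Fin N → A)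
    (hτ : ∀ m, ∑ a, τ a * jet1 b Φ m a = 0) (hτG : mcomb τ Gm = Gs.map (algebraMap k A)) :
    ∃ g : MvPolynomial (Fin N ⊕ Fin N) k, g ≠ 0 ∧ ∀ (F G : Fin N → k), MvPolynomial.eval (Sum.elim F G) g ≠ 0 →
      ∀ (p : A →ₐ[k] k) (c : k), CharZero.IsSing b p (CharZero.comb Φ F G c) →
        OdpLib.test (RingHom.id k) o (mcomb (fun a => F a + c * G a) fun a => (Gm a).map p)
          (mcomb (fun a => F a + c * G a) (fun a => (Gm a).map p) +
            (mcomb (fun a => F a + c * G a) fun a => (Gm a).map p)ᵀ) ≠ 0 := by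
  classical
  obtain ⟨m, f, hf⟩ := Algebra.FiniteType.iff_quotient_mvPolynomial''.1 (inferInstance : Algebra.FiniteType k A)
  let y : Fin m → A := fun i => f (MvPolynomial.X i)
  have hy : Function.Surjective (MvPolynomial.aeval y : MvPolynomial (Fin m) k →ₐ[k] A) := by
    rwa [show MvPolynomial.aeval y = f from (MvPolynomial.aeval_unique f).symm]
  choose lift hlift using hy
  let R := MvPolynomial ((Fin m ⊕ Unit) ⊕ (Fin N ⊕ Fin N)) k
  let Y : MvPolynomial (Fin m) k →ₐ[k] R := MvPolynomial.rename fun i => Sum.inl (Sum.inl i)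
  let C' : Fin N → R := fun a => MvPolynomial.X (Sum.inr (Sum.inl a)) +
    MvPolynomial.X (Sum.inl (Sum.inr ())) * MvPolynomial.X (Sum.inr (Sum.inr a))
  let P : (Fin N → A) → R := fun Ψ => ∑ a, C' a * Y (lift (Ψ a))
  let PM : Matrix (Fin n) (Fin n) R := mcomb C' fun a => (Gm a).map fun t => Y (lift t)
  let S : Set R := Y '' {f : MvPolynomial (Fin m) k | MvPolynomial.aeval y f = 0} ∪
    Set.range (fun m => P (jet1 b Φ m)) ∪ {OdpLib.test MvPolynomial.C o PM (PM + PMᵀ)}
  have hY : ∀ (L : Type u) [CommRing L] [Algebra k L] (x : Fin m ⊕ Unit → L) (w : Fin N ⊕ Fin N → L) (χ : A →ₐ[k] L),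
      (∀ f : MvPolynomial (Fin m) k, χ (MvPolynomial.aeval y f) = MvPolynomial.aeval (fun i => x (Sum.inl i)) f) →
        (∀ Ψ, MvPolynomial.aeval (Sum.elim x w) (P Ψ) =
          ∑ a, (w (Sum.inl a) + x (Sum.inr ()) * w (Sum.inr a)) * χ (Ψ a)) ∧
        MvPolynomial.aeval (Sum.elim x w) (OdpLib.test MvPolynomial.C o PM (PM + PMᵀ)) =
          OdpLib.test (algebraMap k L) o (mcomb (fun a => w (Sum.inl a) + x (Sum.inr ()) * w (Sum.inr a)) fun a => (Gm a).map χ)
            (mcomb (fun a => w (Sum.inl a) + x (Sum.inr ()) * w (Sum.inr a)) (fun a => (Gm a).map χ) +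
              (mcomb (fun a => w (Sum.inl a) + x (Sum.inr ()) * w (Sum.inr a)) fun a => (Gm a).map χ)ᵀ) := by
    intro L _ _ x w χ hχ
    have h1 : ∀ t, MvPolynomial.aeval (Sum.elim x w) (Y (lift t)) = χ t := fun t => by
      conv_rhs => rw [← hlift t, hχ]
      rw [MvPolynomial.aeval_rename]; rfl
    refine ⟨fun Ψ => ?_, ?_⟩
    · simp only [P, C', map_sum, map_mul, map_add, MvPolynomial.aeval_X, Sum.elim_inl, Sum.elim_inr, h1]
    · refine (test_map MvPolynomial.C (MvPolynomial.aeval (Sum.elim x w)).toRingHom o PM).trans ?_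
      have e : (MvPolynomial.aeval (Sum.elim x w)).toRingHom.comp (MvPolynomial.C : k →+* R) = algebraMap k L :=
        RingHom.ext fun c => MvPolynomial.aeval_C _ c
      have eM : PM.map (MvPolynomial.aeval (Sum.elim x w)).toRingHom =
          mcomb (fun a => w (Sum.inl a) + x (Sum.inr ()) * w (Sum.inr a)) fun a => (Gm a).map χ := by
        rw [mcomb_map]
        congr 1
        · funext a
          show MvPolynomial.aeval (Sum.elim x w) (C' a) = _
          simp only [C', map_add, map_mul]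
          erw [MvPolynomial.aeval_X, MvPolynomial.aeval_X, MvPolynomial.aeval_X]
          rfl
        · funext a
          ext i l
          exact h1 _
      rw [e, eM]
  obtain ⟨g, hg0, hg⟩ := exists_poly_no_solution' S (by
    intro L _ _ w x hw hx
    obtain ⟨χ, hχ⟩ := CharZero.exists_chi y (fun a => ⟨lift a, hlift a⟩) (fun i => x (Sum.inl i)) fun f hf => by
      have := hx (Y f) (Or.inl (Or.inl ⟨f, hf, rfl⟩))
      rwa [MvPolynomial.aeval_rename] at this
    obtain ⟨hP, hPM⟩ := hY L x w χ hχ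
    let F : Fin N → L := fun a => w (Sum.inl a)
    let G : Fin N → L := fun a => w (Sum.inr a)
    let c : L := x (Sum.inr ())
    let u : Fin N → L := fun a => F a + c * G a
    let s : Set L := Set.range fun l => χ (z l)
    let K := Cl (k := k) s
    have hK : ∀ t, χ t ∈ K := mem_Cl_coords z b hb χ fun l => subset_Cl _ ⟨l, rfl⟩
    let χK : A →ₐ[k] K := χ.codRestrict (K.toSubalgebra.restrictScalars k) hK
    have hχK : ∀ t, algebraMap K L (χK t) = χ t := fun t => rfl
    obtain ⟨q, E, C, hq, hE, hu⟩ := exists_params (L := L) (K := K) (fun m a => χK (jet1 b Φ m a))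
      fun γ hγ => hind K χK γ hγ
    have hu' := hu u fun m => by
      have := (hP (jet1 b Φ m)).symm.trans (hx _ (Or.inl (Or.inr ⟨m, rfl⟩)))
      rw [← this]
      exact Finset.sum_congr rfl fun a _ => mul_comm _ _
    let t : Fin q → L := fun i => ∑ a, algebraMap K L (C i a) * u a
    have hmem : ∀ a, u a ∈ Cl (k := k) (s ∪ Set.range t) := fun a => by
      rw [hu' a]
      exact sum_mem fun i _ => mul_mem (subset_Cl _ (Or.inr ⟨i, rfl⟩))
        (Cl_mono Set.subset_union_left (E i a).2)
    -- the condition of degeneracy, as a polynomial over the coordinates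
    let Gk : Fin N → Matrix (Fin n) (Fin n) K := fun a => (Gm a).map χK
    let T : MvPolynomial (Fin q) K := degenPoly E Gk o
    have hT0 : T ≠ 0 := by
      intro h0
      let u₀ : Fin N → K := fun a => χK (τ a)
      have hu0 : ∀ a, algebraMap K L (u₀ a) = ∑ i, (∑ a', algebraMap K L (C i a') * algebraMap K L (u₀ a')) *
          algebraMap K L (E i a) := hu (fun a => algebraMap K L (u₀ a)) fun m => by
        rw [← map_zero (algebraMap K L), ← map_zero χK, ← hτ m, map_sum, map_sum]
        exact Finset.sum_congr rfl fun a _ => by simp only [u₀, map_mul]; ring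
      have h1 := aeval_degenPoly E Gk o (L' := K) fun i => ∑ a, C i a * u₀ a
      have e1 : (fun a => ∑ i, (∑ a', C i a' * u₀ a') * algebraMap K K (E i a)) = u₀ := funext fun a => by
        refine (algebraMap K L).injective ?_
        rw [hu0 a, Algebra.algebraMap_self]
        simp only [map_sum, map_mul, RingHom.id_apply]
      have e2 : mcomb u₀ Gk = Gs.map (algebraMap k K) := by
        refine (mcomb_map χK.toRingHom τ Gm).symm.trans ?_
        rw [hτG, Matrix.map_map]
        exact congrArg Gs.map (funext fun c => χK.commutes c)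
      have e3 : (fun a => (Gk a).map (algebraMap K K)) = Gk := funext fun a => by
        rw [Algebra.algebraMap_self]; rfl
      rw [show degenPoly E Gk o = 0 from h0, map_zero, e1, e3, e2, Algebra.algebraMap_self, RingHom.id_comp] at h1
      have h2 := test_map (RingHom.id k) (algebraMap k K) o Gs
      rw [RingHom.comp_id, ← h1] at h2
      exact ho ((map_eq_zero_iff _ (algebraMap k K).injective).1 h2)
    have hrk := rk_lt_of_eval_eq_zero (k := k) (fun l => χ (z l)) t T hT0 (by
      refine (aeval_degenPoly E Gk o t).trans ?_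
      have e1 : (fun a => ∑ i, t i * algebraMap K L (E i a)) = u := funext fun a => (hu' a).symm
      have e2 : (algebraMap K L).comp (algebraMap k K) = algebraMap k L := (IsScalarTower.algebraMap_eq k K L).symm
      have e3 : (fun a => (Gk a).map (algebraMap K L)) = fun a => (Gm a).map χ := rfl
      rw [e1, e2, e3]
      exact hPM.symm.trans (hx _ (Or.inr rfl)))
    refine false_of_count F G (by rwa [show Sum.elim F G = w from Sum.elim_comp_inl_inr w]) c (s ∪ Set.range t) hmem ?_
    have e : rk k (s ∪ Set.range t) + 2 = rk k (s ∪ Set.range t) + 1 + 1 := by rw [← one_add_one_eq_two, add_assoc]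
    rw [e]
    refine (add_le_add hrk le_rfl).trans ?_
    rw [Fintype.card_sum, Fintype.card_unit, Fintype.card_fin] at hq
    rw [Fintype.card_fin, Fintype.card_fin]
    exact_mod_cast (show n + q + 1 ≤ N by omega))
  refine ⟨g, hg0, fun F G hFG p c hs htest => hg (Sum.elim F G) (Sum.elim (fun i => p (y i)) fun _ => c) hFG ?_⟩
  have hp : ∀ f : MvPolynomial (Fin m) k, p (MvPolynomial.aeval y f) = MvPolynomial.aeval (fun i => p (y i)) f :=
    fun f => by rw [← AlgHom.comp_apply, MvPolynomial.comp_aeval]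
  obtain ⟨hP, hPM⟩ := hY k (Sum.elim (fun i => p (y i)) fun _ => c) (Sum.elim F G) p hp
  intro e he
  rw [← MvPolynomial.aeval_eq_eval]
  rcases he with (⟨f, hf, rfl⟩ | ⟨(⟨⟩ | l), rfl⟩) | rfl
  · rw [MvPolynomial.aeval_rename]
    show MvPolynomial.aeval (fun i => p (y i)) f = 0
    rw [← hp, show MvPolynomial.aeval y f = 0 from hf, map_zero]
  · rw [hP, ← hs.1, CharZero.apply_comb]; rfl
  · rw [hP, ← hs.2 l, CharZero.pd_comb, CharZero.apply_comb]; rfl
  · rw [hPM, ← htest, Algebra.algebraMap_self]; rfl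

/-- A general pair has no member singular at two points with independent coordinates. -/
theorem exists_poly_pair (hb : ∀ l, b l = D k A (z l)) {A' : Type u} [CommRing A'] [Algebra k A']
    [Algebra.FiniteType k A'] (z' : Fin n → A') (b' : Basis (Fin n) A' Ω[A'⁄k]) (hb' : ∀ l, b' l = D k A' (z' l))
    (Φ : Fin N → A) (Φ' : Fin N → A') (i₀ i₁ : Fin N)
    (hrel : ∀ (L : Type u) [Field L] [Algebra k L] (χ : A →ₐ[k] L) (χ' : A' →ₐ[k] L),
      χ (Φ i₀) * χ' (Φ' i₁) - χ (Φ i₁) * χ' (Φ' i₀) ≠ 0 →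
      ∃ m₀, (∀ γ : (Unit ⊕ Fin n) ⊕ (Unit ⊕ Fin n) → L,
          (∀ a, ∑ m, γ m * Sum.elim (fun m => χ (jet1 b Φ m a)) (fun m => χ' (jet1 b' Φ' m a)) m = 0) →
            γ m₀ = 0 → γ = 0) ∧
        ((∀ γ : (Unit ⊕ Fin n) ⊕ (Unit ⊕ Fin n) → L,
          (∀ a, ∑ m, γ m * Sum.elim (fun m => χ (jet1 b Φ m a)) (fun m => χ' (jet1 b' Φ' m a)) m = 0) → γ = 0) ∨
          ¬ AlgebraicIndependent k (Sum.elim (fun l => χ (z l)) fun l => χ' (z' l)))) :
    ∃ g : MvPolynomial (Fin N ⊕ Fin N) k, g ≠ 0 ∧ ∀ (F G : Fin N → k), MvPolynomial.eval (Sum.elim F G) g ≠ 0 →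
      ∀ (p : A →ₐ[k] k) (p' : A' →ₐ[k] k) (c : k), CharZero.IsSing b p (CharZero.comb Φ F G c) →
        CharZero.IsSing b' p' (CharZero.comb Φ' F G c) →
        p (Φ i₀) * p' (Φ' i₁) - p (Φ i₁) * p' (Φ' i₀) = 0 := by
  classical
  obtain ⟨m, f, hf⟩ := Algebra.FiniteType.iff_quotient_mvPolynomial''.1 (inferInstance : Algebra.FiniteType k A)
  obtain ⟨m', f', hf'⟩ := Algebra.FiniteType.iff_quotient_mvPolynomial''.1 (inferInstance : Algebra.FiniteType k A')
  let y : Fin m → A := fun i => f (MvPolynomial.X i)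
  let y' : Fin m' → A' := fun i => f' (MvPolynomial.X i)
  have hy : Function.Surjective (MvPolynomial.aeval y : MvPolynomial (Fin m) k →ₐ[k] A) := by
    rwa [show MvPolynomial.aeval y = f from (MvPolynomial.aeval_unique f).symm]
  have hy' : Function.Surjective (MvPolynomial.aeval y' : MvPolynomial (Fin m') k →ₐ[k] A') := by
    rwa [show MvPolynomial.aeval y' = f' from (MvPolynomial.aeval_unique f').symm]
  choose lift hlift using hy
  choose lift' hlift' using hy'
  let τ := (Fin m ⊕ Fin m') ⊕ (Unit ⊕ Unit)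
  let R := MvPolynomial (τ ⊕ (Fin N ⊕ Fin N)) k
  let Y : MvPolynomial (Fin m) k →ₐ[k] R := MvPolynomial.rename fun i => Sum.inl (Sum.inl (Sum.inl i))
  let Y' : MvPolynomial (Fin m') k →ₐ[k] R := MvPolynomial.rename fun i => Sum.inl (Sum.inl (Sum.inr i))
  let C' : Fin N → R := fun a => MvPolynomial.X (Sum.inr (Sum.inl a)) +
    MvPolynomial.X (Sum.inl (Sum.inr (Sum.inl ()))) * MvPolynomial.X (Sum.inr (Sum.inr a))
  let P : (Unit ⊕ Fin n) ⊕ (Unit ⊕ Fin n) → R :=
    Sum.elim (fun m => ∑ a, C' a * Y (lift (jet1 b Φ m a))) fun m => ∑ a, C' a * Y' (lift' (jet1 b' Φ' m a))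
  let M : R := MvPolynomial.X (Sum.inl (Sum.inr (Sum.inr ()))) *
    (Y (lift (Φ i₀)) * Y' (lift' (Φ' i₁)) - Y (lift (Φ i₁)) * Y' (lift' (Φ' i₀))) - 1
  let S : Set R := Y '' {f : MvPolynomial (Fin m) k | MvPolynomial.aeval y f = 0} ∪
    Y' '' {f : MvPolynomial (Fin m') k | MvPolynomial.aeval y' f = 0} ∪ {M} ∪ Set.range P
  have hval : ∀ (L : Type u) [CommRing L] [Algebra k L] (x : τ → L) (w : Fin N ⊕ Fin N → L) (χ : A →ₐ[k] L)
      (χ' : A' →ₐ[k] L),
      (∀ f : MvPolynomial (Fin m) k, χ (MvPolynomial.aeval y f) = MvPolynomial.aeval (fun i => x (Sum.inl (Sum.inl i))) f) →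
      (∀ f : MvPolynomial (Fin m') k, χ' (MvPolynomial.aeval y' f) = MvPolynomial.aeval (fun i => x (Sum.inl (Sum.inr i))) f) →
        (∀ t, MvPolynomial.aeval (Sum.elim x w) (Y (lift t)) = χ t) ∧
        (∀ t, MvPolynomial.aeval (Sum.elim x w) (Y' (lift' t)) = χ' t) ∧
        ∀ m, MvPolynomial.aeval (Sum.elim x w) (P m) = ∑ a, (w (Sum.inl a) + x (Sum.inr (Sum.inl ())) * w (Sum.inr a)) *
          Sum.elim (fun m => χ (jet1 b Φ m a)) (fun m => χ' (jet1 b' Φ' m a)) m := by
    intro L _ _ x w χ χ' hχ hχ'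
    have h1 : ∀ t, MvPolynomial.aeval (Sum.elim x w) (Y (lift t)) = χ t := fun t => by
      conv_rhs => rw [← hlift t, hχ]
      rw [MvPolynomial.aeval_rename]; rfl
    have h2 : ∀ t, MvPolynomial.aeval (Sum.elim x w) (Y' (lift' t)) = χ' t := fun t => by
      conv_rhs => rw [← hlift' t, hχ']
      rw [MvPolynomial.aeval_rename]; rfl
    refine ⟨h1, h2, fun m => ?_⟩
    rcases m with m | m <;>
      simp only [P, C', map_sum, map_mul, map_add, MvPolynomial.aeval_X, Sum.elim_inl, Sum.elim_inr, h1, h2]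
  obtain ⟨g, hg0, hg⟩ := exists_poly_no_solution' S (by
    intro L _ _ w x hw hx
    obtain ⟨χ, hχ⟩ := CharZero.exists_chi y (fun a => ⟨lift a, hlift a⟩) (fun i => x (Sum.inl (Sum.inl i))) fun f hf => by
      have := hx (Y f) (Or.inl (Or.inl (Or.inl ⟨f, hf, rfl⟩)))
      rwa [MvPolynomial.aeval_rename] at this
    obtain ⟨χ', hχ'⟩ := CharZero.exists_chi y' (fun a => ⟨lift' a, hlift' a⟩) (fun i => x (Sum.inl (Sum.inr i))) fun f hf => by
      have := hx (Y' f) (Or.inl (Or.inl (Or.inr ⟨f, hf, rfl⟩)))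
      rwa [MvPolynomial.aeval_rename] at this
    obtain ⟨v1, v1', v2⟩ := hval L x w χ χ' hχ hχ'
    have hM := hx M (Or.inl (Or.inr rfl))
    simp only [M, map_sub, map_mul, map_one, MvPolynomial.aeval_X, Sum.elim_inl, v1, v1'] at hM
    obtain ⟨m₀, hm₀, hcase⟩ := hrel L χ χ' fun h => by simp [h] at hM
    let F : Fin N → L := fun a => w (Sum.inl a)
    let G : Fin N → L := fun a => w (Sum.inr a)
    let c : L := x (Sum.inr (Sum.inl ()))
    let u : Fin N → L := fun a => F a + c * G a
    let s : Set L := Set.range (Sum.elim (fun l => χ (z l)) fun l => χ' (z' l))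
    let K := Cl (k := k) s
    have hK : ∀ m a, Sum.elim (fun m => χ (jet1 b Φ m a)) (fun m => χ' (jet1 b' Φ' m a)) m ∈ K := by
      rintro (m | m) a
      · exact mem_Cl_coords z b hb χ (fun l => subset_Cl s (show χ (z l) ∈ s from ⟨Sum.inl l, rfl⟩)) _
      · exact mem_Cl_coords z' b' hb' χ' (fun l => subset_Cl s (show χ' (z' l) ∈ s from ⟨Sum.inr l, rfl⟩)) _
    have hsys : ∀ m, ∑ a, Sum.elim (fun m => χ (jet1 b Φ m a)) (fun m => χ' (jet1 b' Φ' m a)) m * u a = 0 := fun m => by
      have := (v2 m).symm.trans (hx _ (Or.inr ⟨m, rfl⟩))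
      rw [← this]
      exact Finset.sum_congr rfl fun a _ => mul_comm _ _
    have finish : ∀ (Rw : Type) [Fintype Rw] (ρ : Rw → (Unit ⊕ Fin n) ⊕ (Unit ⊕ Fin n)) (M : ℕ∞),
        (∀ γ : Rw → L, (∀ a, ∑ m, γ m * Sum.elim (fun m => χ (jet1 b Φ m a)) (fun m => χ' (jet1 b' Φ' m a)) (ρ m) = 0) → γ = 0) →
        rk k s ≤ M → (∀ q : ℕ, q + Fintype.card Rw = N → M + (q : ℕ∞) + 2 ≤ (N : ℕ∞)) → False := by
      intro Rw _ ρ M hρ hM hcard
      obtain ⟨q, E, C, hq, -, hu⟩ := exists_params (L := L) (K := K) (fun m a => (⟨_, hK (ρ m) a⟩ : K)) fun γ hγ => by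
        have := hρ (fun m => algebraMap K L (γ m)) fun a => by
          have := congrArg (algebraMap K L) (hγ a)
          rw [map_sum, map_zero] at this
          rw [← this]
          exact Finset.sum_congr rfl fun m _ => by rw [map_mul]; rfl
        exact funext fun m => (algebraMap K L).injective ((congrFun this m).trans (map_zero _).symm)
      have hu' := hu u fun m => hsys (ρ m)
      let t : Fin q → L := fun i => ∑ a, algebraMap K L (C i a) * u a
      refine false_of_count F G (by rwa [show Sum.elim F G = w from Sum.elim_comp_inl_inr w]) c (s ∪ Set.range t) (fun a => by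
        show u a ∈ _
        rw [hu' a]
        exact sum_mem fun i _ => mul_mem (subset_Cl _ (Or.inr ⟨i, rfl⟩))
          (Cl_mono Set.subset_union_left (E i a).2)) ?_
      refine le_trans (add_le_add ((rk_union _ _).trans (add_le_add hM ?_)) le_rfl) (hcard q hq)
      simpa using rk_range_le (k := k) t
    by_cases hz : AlgebraicIndependent k (Sum.elim (fun l => χ (z l)) fun l => χ' (z' l))
    · refine finish _ id _ (hcase.resolve_right (not_not.2 hz)) (rk_range_le _) fun q hq => ?_
      simp only [Fintype.card_sum, Fintype.card_unit, Fintype.card_fin] at hq ⊢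
      exact_mod_cast (show n + n + q + 2 ≤ N by omega)
    · refine finish {m // m ≠ m₀} Subtype.val ((n + n - 1 : ℕ) : ℕ∞) (fun γ hγ => ?_) ?_ fun q hq => ?_
      · let γ' : (Unit ⊕ Fin n) ⊕ (Unit ⊕ Fin n) → L := fun m => if h : m = m₀ then 0 else γ ⟨m, h⟩
        have hγ' := hm₀ γ' (fun a => by
          rw [← hγ a, ← Finset.add_sum_erase _ _ (Finset.mem_univ m₀), show γ' m₀ = 0 by simp [γ'], zero_mul, zero_add,
            Finset.sum_subtype (Finset.univ.erase m₀) (p := fun m => m ≠ m₀) (by simp)]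
          exact Finset.sum_congr rfl fun m _ => by simp [γ', m.2]) (by simp [γ'])
        funext m
        simpa [γ', m.2] using congrFun hγ' m.1
      · have hlt : rk k s < ((n + n : ℕ) : ℕ∞) := lt_of_not_ge fun h => hz (algebraicIndependent_of_rk (by
          rw [Fintype.card_sum, Fintype.card_fin]; exact h))
        rcases Nat.eq_zero_or_pos (n + n) with h0 | h0
        · rw [h0] at hlt; exact absurd hlt not_lt_bot
        · rw [← Nat.sub_add_cancel h0, Nat.cast_add, Nat.cast_one] at hlt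
          exact Order.le_of_lt_add_one hlt
      · rw [Fintype.card_subtype_compl, Fintype.card_subtype_eq] at hq
        simp only [Fintype.card_sum, Fintype.card_unit, Fintype.card_fin] at hq
        rcases Nat.eq_zero_or_pos (n + n) with h0 | h0
        · exact_mod_cast (show n + n - 1 + q + 2 ≤ N by
            exfalso
            exact hz (algebraicIndependent_of_rk (by simp [show n = 0 by omega])))
        · exact_mod_cast (show n + n - 1 + q + 2 ≤ N by omega))
  refine ⟨g, hg0, fun F G hFG p p' c hs hs' => by_contra fun hne =>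
    hg (Sum.elim F G) (Sum.elim (Sum.elim (fun i => p (y i)) fun i => p' (y' i))
      (Sum.elim (fun _ => c) fun _ => (p (Φ i₀) * p' (Φ' i₁) - p (Φ i₁) * p' (Φ' i₀))⁻¹)) hFG ?_⟩
  have hp : ∀ f : MvPolynomial (Fin m) k, p (MvPolynomial.aeval y f) = MvPolynomial.aeval (fun i => p (y i)) f :=
    fun f => by rw [← AlgHom.comp_apply, MvPolynomial.comp_aeval]
  have hp' : ∀ f : MvPolynomial (Fin m') k, p' (MvPolynomial.aeval y' f) = MvPolynomial.aeval (fun i => p' (y' i)) f :=
    fun f => by rw [← AlgHom.comp_apply, MvPolynomial.comp_aeval]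
  obtain ⟨v1, v1', v2⟩ := hval k (Sum.elim (Sum.elim (fun i => p (y i)) fun i => p' (y' i))
      (Sum.elim (fun _ => c) fun _ => (p (Φ i₀) * p' (Φ' i₁) - p (Φ i₁) * p' (Φ' i₀))⁻¹)) (Sum.elim F G) p p' hp hp'
  intro e he
  rw [← MvPolynomial.aeval_eq_eval]
  rcases he with ((⟨f, hf, rfl⟩ | ⟨f, hf, rfl⟩) | rfl) | ⟨((⟨⟩ | l) | (⟨⟩ | l)), rfl⟩
  · rw [MvPolynomial.aeval_rename]
    show MvPolynomial.aeval (fun i => p (y i)) f = 0
    rw [← hp, show MvPolynomial.aeval y f = 0 from hf, map_zero]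
  · rw [MvPolynomial.aeval_rename]
    show MvPolynomial.aeval (fun i => p' (y' i)) f = 0
    rw [← hp', show MvPolynomial.aeval y' f = 0 from hf, map_zero]
  · simp only [M, map_sub, map_mul, map_one, MvPolynomial.aeval_X, Sum.elim_inl, Sum.elim_inr, v1, v1']
    rw [inv_mul_cancel₀ hne, sub_self]
  · rw [v2, ← hs.1, CharZero.apply_comb]; rfl
  · rw [v2, ← hs.2 l, CharZero.pd_comb, CharZero.apply_comb]; rfl
  · rw [v2, ← hs'.1, CharZero.apply_comb]; rfl
  · rw [v2, ← hs'.2 l, CharZero.pd_comb, CharZero.apply_comb]; rfl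

end Groth.Agent.PencilLib.AnyChar
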